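import Groth.Agent.DegDevLib.Deg
import Groth.Agent.FinBirLib.Genus
import Groth.Agent.EtAlgEasy.PrinPartPush
import Groth.Agent.FormalSysLib.PushChart
import Groth.Agent.DevLib.Piece
import Groth.Agent.DevLib.Closed
import Groth.Agent.S0927
import Groth.Agent.DCohLib.PerfCoh
import Mathlib.AlgebraicGeometry.ZariskisMainTheorem

/-!
# Degrees and birational maps of curves
-/

set_option autoImplicit false
set_option linter.style.haveILetI false
set_option backward.isDefEq.respectTransparency false

universe u

open CategoryTheory CategoryTheory.Limits AlgebraicGeometry TopologicalSpace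
open Groth.Agent.PullbackMod Groth.Agent.DCohLib Groth.Agent.CurveLib

noncomputable section

namespace Groth.Agent.DeltaBC

/-- Global sections and direct images: the zeroth derived functor. -/
theorem nonempty_rpush_zero {X Y : Scheme.{u}} (f : X ⟶ Y) [HasInjectiveResolutions X.Modules] (M : X.Modules) :
    Nonempty ((Coh.Rpush f 0).obj M ≅ (Scheme.Modules.pushforward f).obj M) :=
  ⟨(Scheme.Modules.pushforward f).rightDerivedZeroIsoSelf.app M⟩

/-- The projection formula for a finite locally free sheaf. -/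
theorem nonempty_proj_iso {X Y : Scheme.{u}} (f : X ⟶ Y) {E : Y.Modules} (hE : FlatMod.IsFinLocFree E) (M : X.Modules) :
    Nonempty (tmod ((Scheme.Modules.pushforward f).obj M) E ≅
      (Scheme.Modules.pushforward f).obj (tmod M ((Scheme.Modules.pullback f).obj E))) := by
  haveI : HasInjectiveResolutions X.Modules := inferInstanceAs (HasInjectiveResolutions (ModSite.Mod X.sheaf))
  obtain ⟨e⟩ := DCohLib.nonempty_projection_flf f M hE 0
  obtain ⟨a⟩ := nonempty_rpush_zero f M
  obtain ⟨b⟩ := nonempty_rpush_zero f (tmod M ((Scheme.Modules.pullback f).obj E))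
  exact ⟨((DCoh.tensorBi (X := Y)).mapIso a.symm).app E ≪≫ e ≪≫ b⟩

theorem bijective_stalk_structMap {X X' : Scheme.{u}} (f : X' ⟶ X) (U : X.Opens) (hfU : IsIso (f ∣_ U))
    (x : X) (hx : x ∈ U) : Function.Bijective (stalkLin (FibreVanishQC.structMap f) x) := by
  haveI := hfU
  refine ⟨(injective_iff_map_eq_zero _).2 fun z hz => ?_, FinBirLib.surjective_stalk_structMap f U inferInstance x hx⟩
  obtain ⟨O, hxO, a, rfl⟩ := TopCat.Presheaf.exists_germ_eq _ z
  rw [stalkLin_germ] at hz
  let P := (Scheme.Modules.pushforward f).obj (Coh.structureModule X')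
  obtain ⟨W, hxW, i, i', he⟩ := TopCat.Presheaf.germ_eq P.presheaf x hxO hxO
    ((FibreVanishQC.structMap f).app O a) 0 (by rw [hz, map_zero])
  rw [map_zero] at he
  rw [← TopCat.Presheaf.germ_res_apply (Coh.structureModule X).presheaf (homOfLE inf_le_left ≫ i) x (show x ∈ W ⊓ U from ⟨hxW, hx⟩) a]
  have h2 : (Coh.structureModule X).presheaf.map (homOfLE inf_le_left ≫ i).op a = (0 : Γ(Coh.structureModule X, W ⊓ U)) := by
    refine (FormalSys.app_bijective_of_le f (O := U) (D := W ⊓ U) inf_le_right).1 ?_
    rw [map_zero]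
    refine ((ConcreteCategory.congr_hom ((FibreVanishQC.structMap f).mapPresheaf.naturality (homOfLE inf_le_left ≫ i).op) a)).trans ?_
    show P.presheaf.map (i.op ≫ (homOfLE inf_le_left).op) ((FibreVanishQC.structMap f).app O a) = 0
    rw [Functor.map_comp]
    exact (congrArg (P.presheaf.map (homOfLE inf_le_left).op) he).trans (map_zero _)
  rw [h2, map_zero]

variable (k : Type u) [Field k] {X X' : Scheme.{u}} [X.Over (Spec (CommRingCat.of k))] [X'.Over (Spec (CommRingCat.of k))]
  [IsProper (X ↘ Spec (CommRingCat.of k))] [IsProper (X' ↘ Spec (CommRingCat.of k))]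

omit [IsProper (X ↘ Spec (CommRingCat.of k))] in
theorem isFinite_of_birat (hdim' : topologicalKrullDim X' ≤ 1) [IsSeparated (X ↘ Spec (CommRingCat.of k))] (f : X' ⟶ X)
    (hf : f ≫ (X ↘ Spec (CommRingCat.of k)) = X' ↘ Spec (CommRingCat.of k))
    (U : X.Opens) (hU' : Dense ((f ⁻¹ᵁ U : X'.Opens) : Set X')) (hfU : IsIso (f ∣_ U)) : IsFinite f := by
  haveI := EulerIneqLib.isNoetherian_proper (X := X') k
  haveI : IsProper (f ≫ (X ↘ Spec (CommRingCat.of k))) := by rw [hf]; infer_instance
  haveI : IsProper f := IsProper.of_comp f (X ↘ Spec (CommRingCat.of k))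
  haveI : LocallyQuasiFinite f := LocallyQuasiFinite.of_finite_preimage_singleton f fun x => by
    by_cases hx : x ∈ U
    · haveI := hfU
      refine Set.Subsingleton.finite fun a ha b hb => ?_
      have ha' : a ∈ f ⁻¹ᵁ U := show f a ∈ U by rw [show f a = x from ha]; exact hx
      have hb' : b ∈ f ⁻¹ᵁ U := show f b ∈ U by rw [show f b = x from hb]; exact hx
      have h := (f ∣_ U).homeomorph.injective (a₁ := ⟨a, ha'⟩) (a₂ := ⟨b, hb'⟩) (Subtype.ext (by
        rw [Scheme.Hom.homeomorph_apply, Scheme.Hom.homeomorph_apply, morphismRestrict_base]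
        exact (show f a = x from ha).trans (show f b = x from hb).symm))
      exact congrArg Subtype.val h
    · exact (CurveLib.finite_of_dim_le_zero (f ⁻¹ᵁ U).2.isClosed_compl
        (FinBirLib.dim_compl hdim' _ hU')).subset fun a (ha : f a = x) h => hx (ha ▸ h)
  exact IsFinite.of_isProper_of_locallyQuasiFinite f

/-- Degrees are invariant under birational maps of curves. -/
theorem deg_pullback_birat (hdim : topologicalKrullDim X ≤ 1) (f : X' ⟶ X) [IsFinite f]
    (hf : f ≫ (X ↘ Spec (CommRingCat.of k)) = X' ↘ Spec (CommRingCat.of k))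
    (U : X.Opens) (hU : Dense (U : Set X)) (hfU : IsIso (f ∣_ U))
    (n : ℕ) (E : X.Modules) (hE : FlatMod.IsFinLocFreeOfRank n E) :
    Curv2.deg k X' ((Scheme.Modules.pullback f).obj E) n = Curv2.deg k X E n := by
  haveI := EulerIneqLib.isNoetherian_proper (X := X) k
  haveI := EulerIneqLib.isNoetherian_proper (X := X') k
  have hEflf : FlatMod.IsFinLocFree E := fun y => by
    obtain ⟨V, hy, he⟩ := hE y
    exact ⟨V, n, hy, he⟩
  have hEc := DegDevLib.isCoh_of_rank hE
  haveI := hEc.1
  let F := (Scheme.Modules.pullback f).obj E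
  haveI : Coh.IsQCoh F := PullbackMod.isQCoh_pullback _ E
  haveI : Coh.IsQCoh (Coh.structureModule X') := inferInstance
  let O' := (Scheme.Modules.pushforward f).obj (Coh.structureModule X')
  obtain ⟨e⟩ := nonempty_proj_iso f hEflf (Coh.structureModule X')
  have h1 : Curv2.deg k X' F n = DegDevLib.twEuler k n E O' := by
    rw [DegDevLib.twEuler, Curv2.deg, euler_iso (K := k) e,
      euler_iso (K := k) ((Scheme.Modules.pushforward f).mapIso (tmodUnit F)),
      IntLib.euler_push k f hf F, IntLib.euler_push k f hf (Coh.structureModule X')]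
  rw [h1, ← DegDevLib.twEuler_structure (k := k) (n := n) (E := E)]
  -- the structure map is an isomorphism outside finitely many points
  let φ := FibreVanishQC.structMap f
  have h2 : Coh.IsCoh O' := EtAlgEasy.PrinPartPush.isCoh_pushforward_finite f (DevLib.isCoh_structureModule X')
  have h0 := DevLib.isCoh_structureModule X
  obtain ⟨hK, hQ⟩ := QCohLib.isCoh_kernel_cokernel φ h0 h2
  let e₁ := factorThruImage φ
  let m := image.ι φ
  have hfac : e₁ ≫ m = φ := image.fac φ
  let S₁ := ShortComplex.mk (kernel.ι φ) e₁ (by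
    rw [← cancel_mono m, Category.assoc, hfac, kernel.condition, zero_comp])
  have hS₁ : S₁.ShortExact := by
    haveI : Epi e₁ := inferInstanceAs (Epi (factorThruImage φ))
    refine ShortComplex.ShortExact.mk' (ShortComplex.exact_of_f_is_kernel _ ?_) inferInstance inferInstance
    exact KernelFork.IsLimit.ofι' (kernel.ι φ) _ fun {W} g hg => ⟨kernel.lift φ g (by rw [← hfac, ← Category.assoc, hg, zero_comp]), kernel.lift_ι _ _ _⟩
  have hI : Coh.IsCoh (image φ) := (QCohLib.isCoh_kernel_cokernel (kernel.ι φ) hK h0).2 |> fun h =>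
    (DCohLib.isCoh_iso (Abelian.coimageIsoImage φ ≪≫ Abelian.imageIsoImage φ) h)
  let S₂ := ShortComplex.mk m (cokernel.π φ) (by
    rw [← cancel_epi e₁, ← Category.assoc, hfac, cokernel.condition, comp_zero])
  have hS₂ : S₂.ShortExact := by
    refine ShortComplex.ShortExact.mk' (ShortComplex.exact_of_g_is_cokernel _ ?_) inferInstance inferInstance
    exact CokernelCofork.IsColimit.ofπ' (cokernel.π φ) _ fun {W} g hg => ⟨cokernel.desc φ g (by rw [← hfac, Category.assoc, hg, comp_zero]), cokernel.π_desc _ _ _⟩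
  have hb := fun x hx => bijective_stalk_structMap f U hfU x hx
  have hsK : CohB1.support (kernel φ) ⊆ (U : Set X)ᶜ := fun x hx hxU => hx ⟨fun a b => by
    haveI := (PullbackMod.mono_iff_stalk (kernel.ι φ)).1 inferInstance x
    refine (PullbackMod.mono_iff_stalk (kernel.ι φ)).1 inferInstance x ((hb x hxU).1 ?_)
    rw [← LinearMap.comp_apply, ← LinearMap.comp_apply, ← PullbackMod.stalkLin_comp, kernel.condition, DevLib.stalkLin_zero]
    rfl⟩
  have hsQ : CohB1.support (cokernel φ) ⊆ (U : Set X)ᶜ := fun x hx hxU => hx ⟨fun a b => by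
    have key : ∀ c : (cokernel φ).presheaf.stalk x, c = 0 := fun c => by
      obtain ⟨c, rfl⟩ := (PullbackMod.epi_iff_stalk (cokernel.π φ)).1 inferInstance x c
      obtain ⟨c, rfl⟩ := (hb x hxU).2 c
      rw [← LinearMap.comp_apply, ← PullbackMod.stalkLin_comp, cokernel.condition, DevLib.stalkLin_zero]
      rfl
    rw [key a, key b]⟩
  have hd := FinBirLib.dim_compl hdim U hU
  have hzK : DegDevLib.twEuler k n E (kernel φ) = 0 := DegDevLib.twEuler_small k hE hK
    ((Topology.IsEmbedding.inclusion hsK).isInducing.topologicalKrullDim_le.trans hd)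
  have hzQ : DegDevLib.twEuler k n E (cokernel φ) = 0 := DegDevLib.twEuler_small k hE hQ
    ((Topology.IsEmbedding.inclusion hsQ).isInducing.topologicalKrullDim_le.trans hd)
  have a1 := DegDevLib.twEuler_shortExact k hE S₁ hS₁ hK h0 hI
  have a2 := DegDevLib.twEuler_shortExact k hE S₂ hS₂ hI h2 hQ
  change DegDevLib.twEuler k n E (Coh.structureModule X) = DegDevLib.twEuler k n E (kernel φ) + DegDevLib.twEuler k n E (image φ) at a1
  change DegDevLib.twEuler k n E O' = DegDevLib.twEuler k n E (image φ) + DegDevLib.twEuler k n E (cokernel φ) at a2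
  omega

end Groth.Agent.DeltaBC
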