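import Groth.Agent.CurveLib.GlobalFun
import Mathlib.RingTheory.Artinian.Instances
import Mathlib.Topology.Connected.Clopen

/-!
# Connected components of a reduced proper scheme over an algebraically closed field and `h⁰(O)`
-/

set_option autoImplicit false
set_option linter.style.haveILetI false
set_option backward.isDefEq.respectTransparency false

universe u

open CategoryTheory CategoryTheory.Limits AlgebraicGeometry TopologicalSpace Opposite

noncomputable section

namespace Groth.Agent.DeltaBC

theorem finite_connectedComponents {T : Type*} [TopologicalSpace T] [NoetherianSpace T] :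
    Finite (_root_.ConnectedComponents T) := by
  haveI := (NoetherianSpace.finite_irreducibleComponents (α := T)).to_subtype
  refine Finite.of_surjective (fun C : irreducibleComponents T => ConnectedComponents.mk C.2.1.1.choose) fun c => ?_
  obtain ⟨x, rfl⟩ := ConnectedComponents.surjective_coe c
  refine ⟨⟨_, irreducibleComponent_mem_irreducibleComponents x⟩, ?_⟩
  have hx : (irreducibleComponent_mem_irreducibleComponents x).1.1.choose ∈ irreducibleComponent x :=
    (irreducibleComponent_mem_irreducibleComponents x).1.1.choose_spec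
  exact ConnectedComponents.coe_eq_coe'.2
    ((isIrreducible_irreducibleComponent.2.isPreconnected).subset_connectedComponent mem_irreducibleComponent hx)

theorem card_clopens {T : Type*} [TopologicalSpace T] [Finite (_root_.ConnectedComponents T)] :
    Nat.card {s : Set T // IsClopen s} = 2 ^ Nat.card (_root_.ConnectedComponents T) := by
  haveI : Fintype (_root_.ConnectedComponents T) := Fintype.ofFinite _
  rw [Nat.card_eq_fintype_card (α := _root_.ConnectedComponents T), ← Fintype.card_set, ← Nat.card_eq_fintype_card]
  symm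
  refine Nat.card_eq_of_bijective
    (fun S => (⟨(↑) ⁻¹' S, (isClopen_discrete S).preimage ConnectedComponents.continuous_coe⟩ :
      {s : Set T // IsClopen s})) ⟨fun a b h => ?_, fun s => ?_⟩
  · exact ConnectedComponents.surjective_coe.preimage_injective (congrArg Subtype.val h)
  · refine ⟨(↑) '' s.1, Subtype.ext ?_⟩
    show ConnectedComponents.mk ⁻¹' (ConnectedComponents.mk '' s.1) = s.1
    rw [connectedComponents_preimage_image, s.2.biUnion_connectedComponent_eq]

/-- Idempotent global functions are the clopen subsets. -/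
theorem card_idempotents (Z : LocallyRingedSpace.{u}) :
    Nat.card {e : Z.presheaf.obj (op ⊤) // IsIdempotentElem e} = Nat.card {s : Set Z // IsClopen s} := by
  classical
  let g := fun (x : Z) => (Z.presheaf.germ ⊤ x trivial).hom
  have hext : ∀ s t : Z.presheaf.obj (op ⊤), (∀ x, g x s = g x t) → s = t := fun s t h =>
    TopCat.Presheaf.section_ext Z.sheaf ⊤ s t fun x _ => h x
  have h01 : ∀ (e : Z.presheaf.obj (op ⊤)), IsIdempotentElem e → ∀ x, g x e = 0 ∨ g x e = 1 := by
    intro e he x
    rcases IsLocalRing.isUnit_or_isUnit_one_sub_self (g x e) with h | h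
    · exact Or.inr ((IsIdempotentElem.iff_eq_one_of_isUnit h).mp (he.map (g x)))
    · exact Or.inl (sub_eq_self.mp ((IsIdempotentElem.iff_eq_one_of_isUnit h).mp (he.map (g x)).one_sub))
  let D : Z.presheaf.obj (op ⊤) → TopologicalSpace.Opens Z := fun e => Z.toRingedSpace.basicOpen e
  have hiff : ∀ (e : Z.presheaf.obj (op ⊤)), IsIdempotentElem e → ∀ x, x ∈ D e ↔ g x e = 1 := by
    intro e he x
    refine (Z.toRingedSpace.mem_top_basicOpen e x).trans ⟨fun h => ?_, fun h => ?_⟩
    · exact (IsIdempotentElem.iff_eq_one_of_isUnit h).mp (he.map (g x))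
    · exact h ▸ isUnit_one
  have hcl : ∀ (e : Z.presheaf.obj (op ⊤)), IsIdempotentElem e → IsClopen (D e : Set Z) := by
    intro e he
    refine ⟨⟨?_⟩, (D e).2⟩
    have : (D e : Set Z)ᶜ = (D (1 - e) : Set Z) := by
      ext x
      rw [Set.mem_compl_iff, SetLike.mem_coe, SetLike.mem_coe, hiff e he, hiff _ he.one_sub, map_sub, map_one]
      rcases h01 e he x with h | h <;> simp [h]
    rw [this]
    exact (D (1 - e)).2
  refine Nat.card_eq_of_bijective (fun e => ⟨(D e.1 : Set Z), hcl e.1 e.2⟩) ⟨fun a b h => ?_, ?_⟩
  · refine Subtype.ext (hext _ _ fun x => ?_)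
    have h' : ((D a.1 : Set Z)) = (D b.1 : Set Z) :=
      congrArg Subtype.val h
    have hx := Set.ext_iff.1 h' x
    rw [SetLike.mem_coe, SetLike.mem_coe, hiff _ a.2, hiff _ b.2] at hx
    rcases h01 _ a.2 x with ha | ha <;> rcases h01 _ b.2 x with hb | hb <;> simp_all
  · rintro ⟨s, hs⟩
    let U : Bool → TopologicalSpace.Opens Z := fun b => bif b then ⟨s, hs.2⟩ else ⟨sᶜ, hs.1.isOpen_compl⟩
    let sf : ∀ b, Z.presheaf.obj (op (U b)) := fun b => bif b then 1 else 0
    have hcomp : TopCat.Presheaf.IsCompatible Z.sheaf.1 U sf := by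
      intro a b
      rcases a with _ | _ <;> rcases b with _ | _
      all_goals first
        | rfl
        | (refine TopCat.Presheaf.section_ext Z.sheaf _ _ _ fun x hx => ?_
           exact absurd hx (by simp [U]))
    obtain ⟨e, he, -⟩ := TopCat.Sheaf.existsUnique_gluing' Z.sheaf U ⊤ (fun b => homOfLE le_top)
      (fun x _ => by
        rw [TopologicalSpace.Opens.mem_iSup]
        by_cases hx : x ∈ s
        · exact ⟨true, hx⟩
        · exact ⟨false, hx⟩) sf hcomp
    have hgerm : ∀ x, (x ∈ s → g x e = 1) ∧ (x ∉ s → g x e = 0) := by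
      intro x
      constructor <;> intro hx
      · have := congrArg (Z.presheaf.germ (U true) x hx).hom (he true)
        erw [TopCat.Presheaf.germ_res_apply] at this
        exact this.trans (map_one _)
      · have := congrArg (Z.presheaf.germ (U false) x hx).hom (he false)
        erw [TopCat.Presheaf.germ_res_apply] at this
        exact this.trans (map_zero _)
    have hid : IsIdempotentElem e := by
      refine hext _ _ fun x => ?_
      refine (RingHom.map_mul (g x) e e).trans ?_
      by_cases hx : x ∈ s
      · rw [(hgerm x).1 hx, one_mul]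
      · rw [(hgerm x).2 hx, zero_mul]
    refine ⟨⟨e, hid⟩, Subtype.ext (Set.ext fun x => ?_)⟩
    show x ∈ D e ↔ x ∈ s
    rw [hiff e hid]
    refine ⟨fun h => by_contra fun hx => ?_, (hgerm x).1⟩
    exact zero_ne_one (((hgerm x).2 hx).symm.trans h)

/-- A reduced finite algebra over an algebraically closed field has `2 ^ dim` idempotents. -/
theorem card_idempotents_finite (k A : Type u) [Field k] [IsAlgClosed k] [CommRing A] [Algebra k A] [Module.Finite k A]
    [_root_.IsReduced A] : Nat.card {e : A // IsIdempotentElem e} = 2 ^ Module.finrank k A := by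
  classical
  haveI : IsArtinianRing A := IsArtinianRing.of_finite k A
  haveI : Fintype (MaximalSpectrum A) := Fintype.ofFinite _
  let E : A ≃ₐ[k] ∀ I : MaximalSpectrum A, A ⧸ I.asIdeal := (IsArtinianRing.equivPi A).restrictScalars k
  let F : ∀ I : MaximalSpectrum A, (A ⧸ I.asIdeal) ≃ₐ[k] k := fun I =>
    haveI := I.isMaximal
    letI := Ideal.Quotient.field I.asIdeal
    (AlgEquiv.ofBijective (Algebra.ofId k (A ⧸ I.asIdeal)) (IsAlgClosed.algebraMap_bijective_of_isIntegral (k := k))).symm
  let G : A ≃ₐ[k] (MaximalSpectrum A → k) := E.trans (AlgEquiv.piCongrRight F)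
  rw [G.toLinearEquiv.finrank_eq, Module.finrank_pi, ← Fintype.card_bool, ← Fintype.card_fun,
    ← Nat.card_eq_fintype_card]
  symm
  have hbool : ∀ c : Bool, IsIdempotentElem (bif c then (1 : k) else 0) := fun c => by
    cases c
    · exact IsIdempotentElem.zero
    · exact IsIdempotentElem.one
  refine Nat.card_eq_of_bijective (fun f => (⟨G.symm (fun I => bif f I then 1 else 0), ?_⟩ :
    {e : A // IsIdempotentElem e})) ⟨fun f g h => ?_, fun e => ?_⟩
  · exact IsIdempotentElem.map (show IsIdempotentElem (fun I => bif f I then (1 : k) else 0) from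
      funext fun I => hbool (f I)) G.symm
  · have h' := G.symm.injective (congrArg Subtype.val h)
    funext I
    have := congrFun h' I
    cases hf : f I <;> cases hg : g I <;> simp_all
  · refine ⟨fun I => decide (G e.1 I = 1), Subtype.ext ?_⟩
    show G.symm _ = e.1
    apply G.injective
    rw [AlgEquiv.apply_symm_apply]
    funext I
    rcases IsIdempotentElem.iff_eq_zero_or_one.1 (show IsIdempotentElem (G e.1 I) from
      congrFun (e.2.map G) I) with h | h <;> simp [h]

open CurveLib in
/-- `h⁰(O)` counts the connected components. -/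
theorem finrank_H0_eq_card_components (k : Type u) [Field k] [IsAlgClosed k] (X : Scheme.{u})
    [X.Over (Spec (CommRingCat.of k))] [IsProper (X ↘ Spec (CommRingCat.of k))] [IsReduced X] :
    Module.finrank k (Coh.HH X (Coh.structureModule X) 0) = Nat.card (_root_.ConnectedComponents X) := by
  haveI := EulerIneqLib.isNoetherian_proper (X := X) k
  haveI := finite_connectedComponents (T := X)
  haveI := EulerIneqLib.finite_HH (k := k) (DevLib.isCoh_structureModule X) 0
  let φ : k →+* Γ(X, ⊤) := Coh.toGlobal (X ↘ Spec (CommRingCat.of k))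
  letI := φ.toAlgebra
  let e : Coh.HH X (Coh.structureModule X) 0 ≃ₗ[k] Γ(X, ⊤) :=
    { (secOf (Coh.structureModule X)) with map_smul' := fun r c => secOf_smul (k := k) _ r c }
  haveI : Module.Finite k Γ(X, ⊤) := Module.Finite.equiv e
  refine Nat.pow_right_injective (le_refl 2) ?_
  show 2 ^ _ = 2 ^ _
  rw [e.finrank_eq, ← card_idempotents_finite k Γ(X, ⊤)]
  exact (card_idempotents X.toLocallyRingedSpace).trans (card_clopens (T := X))

end Groth.Agent.DeltaBC
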