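import Groth.Agent.DeltaBCLib.Wedge
import Groth.Agent.S7655

/-!
# Branches over separably closed residue fields
-/

set_option autoImplicit false
set_option linter.style.haveILetI false

universe u

open IsLocalRing

noncomputable section

namespace Groth.Agent.DeltaBC

variable (A : Type u) [CommRing A] [IsLocalRing A] [_root_.IsReduced A] [IsNoetherianRing A] [Module.Finite A (Nor A)]

theorem numBranches_eq : Brnch.numBranches A = (Nat.card (MaximalSpectrum (Nor A)) : ℕ∞) := by
  haveI := finite_maximalSpectrum (A := A)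
  obtain ⟨ψ, -⟩ := S7655.exists_equiv A
  let E : MaximalSpectrum (Nor A) → MaximalSpectrum (CAlg2.normRed A) := fun i =>
    ⟨i.asIdeal.comap ψ.symm.toRingHom, haveI := i.isMaximal; Ideal.comap_isMaximal_of_surjective _ ψ.symm.surjective⟩
  have hE : Function.Bijective E := by
    refine ⟨fun i j h => MaximalSpectrum.ext (Ideal.comap_injective_of_surjective ψ.symm.toRingHom ψ.symm.surjective
      (congrArg MaximalSpectrum.asIdeal h)), fun j => ⟨⟨j.asIdeal.comap ψ.toRingHom, ?_⟩, MaximalSpectrum.ext ?_⟩⟩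
    · haveI := j.isMaximal
      exact Ideal.comap_isMaximal_of_surjective _ ψ.surjective
    · ext z
      show ψ (ψ.symm z) ∈ j.asIdeal ↔ _
      rw [ψ.apply_symm_apply]
  haveI := Finite.of_surjective E hE.2
  unfold Brnch.numBranches
  rw [if_pos (minimalPrimes.finite_of_isNoetherianRing A), ENat.card_eq_coe_natCard, ← Nat.card_eq_of_bijective E hE]

/-- Over a separably closed residue field there are no more geometric branches than branches. -/
theorem numGeomBranches_le [IsSepClosed (ResidueField A)] : Brnch.numGeomBranches A ≤ Brnch.numBranches A := by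
  classical
  obtain ⟨ψ, hψ⟩ := S7655.exists_equiv A
  letI : Algebra A (CAlg2.normRed A) := (S7655.toNorm A).toAlgebra
  let Ψ : Nor A ≃ₐ[A] CAlg2.normRed A := AlgEquiv.ofRingEquiv (f := ψ) hψ
  haveI : Module.Finite A (CAlg2.normRed A) := Module.Finite.equiv Ψ.toLinearEquiv
  haveI : Algebra.IsIntegral A (CAlg2.normRed A) := Algebra.IsIntegral.of_finite A _
  have hsub : ∀ m' : MaximalSpectrum (CAlg2.normRed A), Subsingleton (Brnch.Emb A m') := by
    intro m'
    haveI := m'.isMaximal
    letI : Field (CAlg2.normRed A ⧸ m'.asIdeal) := Ideal.Quotient.field _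
    let φ : ResidueField A →+* CAlg2.normRed A ⧸ m'.asIdeal := Ideal.Quotient.lift _ (algebraMap A _) fun a ha => by
      show Ideal.Quotient.mk _ (algebraMap A (CAlg2.normRed A) a) = 0
      rw [Ideal.Quotient.eq_zero_iff_mem, ← Ideal.mem_comap,
        eq_maximalIdeal (Ideal.isMaximal_comap_of_isIntegral_of_isMaximal (R := A) m'.asIdeal)]
      exact ha
    letI := φ.toAlgebra
    haveI : IsScalarTower A (ResidueField A) (CAlg2.normRed A ⧸ m'.asIdeal) := IsScalarTower.of_algebraMap_eq fun a => rfl
    haveI : Algebra.IsIntegral (ResidueField A) (CAlg2.normRed A ⧸ m'.asIdeal) := Algebra.IsIntegral.tower_top (R := A)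
    haveI : Algebra.IsAlgebraic (ResidueField A) (CAlg2.normRed A ⧸ m'.asIdeal) := Algebra.IsIntegral.isAlgebraic
    haveI : IsPurelyInseparable (ResidueField A) (CAlg2.normRed A ⧸ m'.asIdeal) := inferInstance
    let ι : Brnch.Emb A m' → ((CAlg2.normRed A ⧸ m'.asIdeal) →ₐ[ResidueField A] AlgebraicClosure (ResidueField A)) := fun σ =>
      { toRingHom := σ.1
        commutes' := fun r => by
          obtain ⟨a, rfl⟩ := Ideal.Quotient.mk_surjective r
          exact DFunLike.congr_fun σ.2 a }
    exact Function.Injective.subsingleton (f := ι) fun σ τ h => Subtype.ext (congrArg AlgHom.toRingHom h)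
  unfold Brnch.numGeomBranches Brnch.numBranches
  rw [if_pos (minimalPrimes.finite_of_isNoetherianRing A), if_pos (minimalPrimes.finite_of_isNoetherianRing A)]
  exact ENat.card_le_card_of_injective (f := Sigma.fst) fun a b h => by
    obtain ⟨i, σ⟩ := a
    obtain ⟨j, τ⟩ := b
    obtain rfl : i = j := h
    exact congrArg _ ((hsub i).elim σ τ)

omit [_root_.IsReduced A] [IsNoetherianRing A] in
theorem exists_nonZeroDivisor_mem (hdim : ringKrullDim A = 1) [_root_.IsReduced A] [IsNoetherianRing A] :
    ∃ s ∈ maximalIdeal A, s ∈ nonZeroDivisors A := by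
  by_contra hne
  push Not at hne
  have hfin := (⊥ : Ideal A).finite_minimalPrimes_of_isNoetherianRing A
  obtain ⟨P, hP, hPle⟩ := (Ideal.subset_union_prime (s := hfin.toFinset) (f := fun P => P) (I := maximalIdeal A)
    ⊥ ⊥ fun P hP _ _ => (hfin.mem_toFinset.1 hP).1.1).1 fun x hx => by
      by_contra hx'
      exact hne x hx (RegLocLib.mem_nonZeroDivisors_of_forall_notMem fun η hη hxη =>
        hx' (Set.mem_iUnion₂.2 ⟨η, Finset.mem_coe.2 (hfin.mem_toFinset.2 hη), hxη⟩))
  have hPmin := hfin.mem_toFinset.1 hP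
  obtain rfl : maximalIdeal A = P := (maximalIdeal.isMaximal A).eq_of_le hPmin.1.1.ne_top hPle
  have h0 : (maximalIdeal A).height = 0 := Ideal.height_eq_zero_iff.2 hPmin
  rw [← IsLocalRing.maximalIdeal_height_eq_ringKrullDim, h0] at hdim
  exact zero_ne_one (α := WithBot ℕ∞) hdim

/-- The localisations of the normalization at maximal ideals are discrete valuation rings. -/
theorem isDVR_atPrime (hN : CAlg.IsNagata A) (hdim : ringKrullDim A = 1) (n : Ideal (Nor A)) [n.IsMaximal] :
    ∃ _ : IsDomain (Localization.AtPrime n), IsDiscreteValuationRing (Localization.AtPrime n) := by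
  obtain ⟨-, hnor, -⟩ := S7652.result A hN hdim
  haveI : IsNoetherianRing (Nor A) := isNoetherian_of_tower A (isNoetherian_of_isNoetherianRing_of_finite A _)
  haveI : Algebra.IsIntegral A (Nor A) := Algebra.IsIntegral.of_finite A _
  let L := Localization.AtPrime n
  haveI : IsNoetherianRing L := IsLocalization.isNoetherianRing n.primeCompl L inferInstance
  obtain ⟨hd, hic⟩ := hnor ⟨n, inferInstance⟩
  haveI : IsDomain L := hd
  haveI : IsIntegrallyClosed L := hic
  refine ⟨hd, ?_⟩
  have hdimL : Ring.KrullDimLE 1 L := by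
    refine Ring.krullDimLE_iff.2 ?_
    rw [IsLocalization.AtPrime.ringKrullDim_eq_height n L]
    refine Ideal.height_le_ringKrullDim_of_isPrime.trans ?_
    rw [show ((1 : ℕ) : WithBot ℕ∞) = ringKrullDim A by rw [hdim]; rfl]
    refine Order.krullDim_le_of_strictMono (fun P => ⟨P.asIdeal.comap (algebraMap A (Nor A)), inferInstance⟩) fun P Q hPQ => ?_
    obtain ⟨x, hxQ, hxP⟩ := SetLike.exists_of_lt (show P.asIdeal < Q.asIdeal from hPQ)
    exact Ideal.comap_lt_comap_of_integral_mem_sdiff (show P.asIdeal ≤ Q.asIdeal from hPQ.le) ⟨hxQ, hxP⟩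
      (Algebra.IsIntegral.isIntegral x)
  have hnf : ¬ IsField L := by
    intro hf
    obtain ⟨s, hsm, hs⟩ := exists_nonZeroDivisor_mem A hdim
    have hsn : algebraMap A (Nor A) s ∈ n := by
      rw [← Ideal.mem_comap, eq_maximalIdeal (Ideal.isMaximal_comap_of_isIntegral_of_isMaximal (R := A) n)]
      exact hsm
    have h0 : algebraMap (Nor A) L (algebraMap A (Nor A) s) = 0 := by
      by_contra hne
      exact ((mem_maximalIdeal _).1 ((IsLocalization.AtPrime.to_map_mem_maximal_iff L n _).2 hsn))
        (isUnit_iff_exists_inv.2 (hf.mul_inv_cancel hne))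
    obtain ⟨v, hv⟩ := (IsLocalization.map_eq_zero_iff n.primeCompl L _).1 h0
    refine v.2 ?_
    have h1 : ((v : Nor A) : FractionRing A) * algebraMap A (FractionRing A) s = 0 := congrArg Subtype.val hv
    rw [show (v : Nor A) = 0 from Subtype.ext ((IsLocalization.map_units (FractionRing A) ⟨s, hs⟩).mul_left_eq_zero.1 h1)]
    exact n.zero_mem
  have h03 : IsDiscreteValuationRing L ↔ (IsIntegrallyClosed L ∧ ∃! P : Ideal L, P ≠ ⊥ ∧ P.IsPrime) :=
    (IsDiscreteValuationRing.TFAE L hnf).out 0 3
  exact h03.2 ⟨inferInstance, maximalIdeal L, ⟨fun h => hnf (isField_iff_maximalIdeal_eq.2 h), inferInstance⟩,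
    fun P hP => eq_maximalIdeal ((Ring.krullDimLE_one_iff_of_noZeroDivisors.1 hdimL) P hP.1 hP.2)⟩

end Groth.Agent.DeltaBC
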