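import Groth.Agent.DeltaBCLib.Main
import Groth.Agent.RegLocLib.Dim1
import Groth.Agent.S7652

/-!
# Minimal δ-invariant: wedges
-/

set_option autoImplicit false
set_option linter.style.haveILetI false

universe u

open IsLocalRing

noncomputable section

namespace Groth.Agent.DeltaBC

variable {A : Type u} [CommRing A] [IsLocalRing A] [Module.Finite A (Nor A)]

theorem finite_maximalSpectrum [IsNoetherianRing A] : Finite (MaximalSpectrum (Nor A)) := by
  haveI : IsNoetherianRing (Nor A) := isNoetherian_of_tower A (isNoetherian_of_isNoetherianRing_of_finite A _)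
  haveI : Algebra.IsIntegral A (Nor A) := Algebra.IsIntegral.of_finite A _
  haveI : IsArtinianRing (Nor A ⧸ (maximalIdeal A).map (algebraMap A (Nor A))) := by
    letI : Field (A ⧸ maximalIdeal A) := Ideal.Quotient.field _
    haveI : Module.Finite (A ⧸ maximalIdeal A) (Nor A ⧸ (maximalIdeal A).map (algebraMap A (Nor A))) :=
      Module.Finite.of_restrictScalars_finite A _ _
    exact IsArtinianRing.of_finite (A ⧸ maximalIdeal A) _
  have hle : ∀ i : MaximalSpectrum (Nor A), (maximalIdeal A).map (algebraMap A (Nor A)) ≤ i.asIdeal := fun i => by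
    haveI := i.isMaximal
    rw [Ideal.map_le_iff_le_comap,
      eq_maximalIdeal (Ideal.isMaximal_comap_of_isIntegral_of_isMaximal (R := A) i.asIdeal)]
  have hmk : ∀ i : MaximalSpectrum (Nor A), (i.asIdeal.map (Ideal.Quotient.mk ((maximalIdeal A).map (algebraMap A (Nor A))))).IsMaximal :=
    fun i => by
      haveI := i.isMaximal
      exact Ideal.IsMaximal.map_of_surjective_of_ker_le Ideal.Quotient.mk_surjective (by rw [Ideal.mk_ker]; exact hle i)
  refine Finite.of_injective (fun i => (⟨_, hmk i⟩ : MaximalSpectrum (Nor A ⧸ (maximalIdeal A).map (algebraMap A (Nor A))))) ?_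
  intro i j h
  have h2 := congrArg (fun I => I.asIdeal.comap (Ideal.Quotient.mk ((maximalIdeal A).map (algebraMap A (Nor A))))) h
  simp only [Ideal.comap_map_of_surjective' _ Ideal.Quotient.mk_surjective, Ideal.mk_ker, sup_eq_left.2 (hle i),
    sup_eq_left.2 (hle j)] at h2
  exact MaximalSpectrum.ext h2

/-- If the δ-invariant is less than the number of branches, the residue fields are trivial and the ring is a wedge. -/
theorem wedge [Finite (MaximalSpectrum (Nor A))] (hfin : Curv2.deltaInv A < ⊤)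
    (h : Curv2.deltaInv A + 1 ≤ Nat.card (MaximalSpectrum (Nor A))) :
    (∀ i : MaximalSpectrum (Nor A), Function.Surjective (algebraMap A (Nor A ⧸ i.asIdeal))) ∧
      ∀ (z : Nor A) (a : A), (∀ i : MaximalSpectrum (Nor A), z - algebraMap A _ a ∈ i.asIdeal) →
        z ∈ (algebraMap A (Nor A)).range := by
  classical
  cases nonempty_fintype (MaximalSpectrum (Nor A))
  haveI : Algebra.IsIntegral A (Nor A) := Algebra.IsIntegral.of_finite A _
  let P := ∀ i : MaximalSpectrum (Nor A), Nor A ⧸ i.asIdeal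
  let π : Nor A →ₗ[A] P := LinearMap.pi fun i => (Ideal.Quotient.mkₐ A i.asIdeal).toLinearMap
  have hπ : Function.Surjective π := fun y => by
    obtain ⟨b, hb⟩ := Ideal.quotientInfToPiQuotient_surj (I := fun i : MaximalSpectrum (Nor A) => i.asIdeal)
      (fun i j hij => Ideal.isCoprime_iff_sup_eq.2 (i.isMaximal.coprime_of_ne j.isMaximal fun h => hij (MaximalSpectrum.ext h))) y
    obtain ⟨b, rfl⟩ := Ideal.Quotient.mk_surjective b
    exact ⟨b, funext fun i => congrFun hb i⟩
  let R₀ := LinearMap.range (π.comp (Algebra.linearMap A (Nor A)))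
  let q : (Nor A ⧸ LinearMap.range (Algebra.linearMap A (Nor A))) →ₗ[A] P ⧸ R₀ :=
    Submodule.mapQ _ R₀ π (by rintro _ ⟨a, rfl⟩; exact ⟨a, rfl⟩)
  have hq : Function.Surjective q := fun z => by
    obtain ⟨z, rfl⟩ := Submodule.Quotient.mk_surjective _ z
    obtain ⟨b, rfl⟩ := hπ z
    exact ⟨Submodule.Quotient.mk b, rfl⟩
  have h2 : Module.length A R₀ ≤ 1 := by
    have hker : (maximalIdeal A : Submodule A A) ≤ LinearMap.ker (π.comp (Algebra.linearMap A (Nor A))).rangeRestrict := fun a ha => by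
      rw [LinearMap.ker_rangeRestrict, LinearMap.mem_ker]
      funext i
      show Ideal.Quotient.mk i.asIdeal (algebraMap A (Nor A) a) = 0
      haveI := i.isMaximal
      rw [Ideal.Quotient.eq_zero_iff_mem, ← Ideal.mem_comap,
        eq_maximalIdeal (Ideal.isMaximal_comap_of_isIntegral_of_isMaximal (R := A) i.asIdeal)]
      exact ha
    haveI : IsSimpleModule A (A ⧸ maximalIdeal A) := isSimpleModule_iff_isCoatom.2 (maximalIdeal.isMaximal A).out
    refine (Module.length_le_of_surjective (Submodule.liftQ (maximalIdeal A) _ hker) ?_).trans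
      (Module.length_eq_one A (A ⧸ maximalIdeal A)).le
    intro z
    obtain ⟨a, ha⟩ := LinearMap.surjective_rangeRestrict (π.comp (Algebra.linearMap A (Nor A))) z
    exact ⟨Submodule.Quotient.mk a, ha⟩
  have hker := Module.length_eq_add_of_exact (LinearMap.ker q).subtype q (Submodule.subtype_injective _) hq
    (LinearMap.exact_subtype_ker_map q)
  have hP := Module.length_eq_add_of_exact (N := ↥R₀) R₀.subtype R₀.mkQ R₀.subtype_injective R₀.mkQ_surjective
    (LinearMap.exact_subtype_mkQ R₀)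
  rw [show Module.length A (Nor A ⧸ LinearMap.range (Algebra.linearMap A (Nor A))) = Curv2.deltaInv A from rfl] at hker
  have hone : ∀ i : MaximalSpectrum (Nor A), 1 ≤ Module.length A (Nor A ⧸ i.asIdeal) := fun i => by
    haveI := i.isMaximal
    haveI : Nontrivial (Nor A ⧸ i.asIdeal) := Ideal.Quotient.nontrivial_iff.2 Ideal.IsPrime.ne_top'
    exact Order.one_le_iff_pos.2 Module.length_pos
  have hsum : ((Nat.card (MaximalSpectrum (Nor A)) : ℕ) : ℕ∞) ≤ ∑ i : MaximalSpectrum (Nor A), Module.length A (Nor A ⧸ i.asIdeal) := by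
    rw [Nat.card_eq_fintype_card]
    refine le_trans (le_of_eq ?_) (Finset.sum_le_sum fun i _ => hone i)
    simp
  obtain ⟨δ, hδ⟩ := ENat.ne_top_iff_exists.1 hfin.ne
  rw [← hδ] at h hker
  rw [Module.length_pi_of_fintype] at hP
  have hbound : ∑ i : MaximalSpectrum (Nor A), Module.length A (Nor A ⧸ i.asIdeal) ≤ Module.length A (P ⧸ R₀) + 1 := by
    rw [hP, add_comm]; exact add_le_add le_rfl h2
  obtain ⟨K, hK⟩ : ∃ K : ℕ, Module.length A (LinearMap.ker q) = K := ⟨_, (ENat.coe_toNat (ne_top_of_le_ne_top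
    (ENat.coe_ne_top δ) (hker ▸ le_self_add))).symm⟩
  obtain ⟨L, hL⟩ : ∃ L : ℕ, Module.length A (P ⧸ R₀) = L := ⟨_, (ENat.coe_toNat (ne_top_of_le_ne_top
    (ENat.coe_ne_top δ) (hker ▸ le_add_self))).symm⟩
  rw [hK, hL] at hker
  rw [hL] at hbound
  obtain ⟨S, hS⟩ : ∃ S : ℕ, ∑ i : MaximalSpectrum (Nor A), Module.length A (Nor A ⧸ i.asIdeal) = S := ⟨_, (ENat.coe_toNat (ne_top_of_le_ne_top
    (show ((L + 1 : ℕ) : ℕ∞) ≠ ⊤ from ENat.coe_ne_top _) (by exact_mod_cast hbound))).symm⟩
  rw [hS] at hsum hbound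
  norm_cast at h hker hsum hbound
  have hK0 : Function.Injective q := by
    rw [← LinearMap.ker_eq_bot, ← Submodule.subsingleton_iff_eq_bot, ← Module.length_eq_zero_iff (R := A), hK]
    exact_mod_cast show K = 0 by omega
  refine ⟨fun i => ?_, fun z a hz => ?_⟩
  · have h1 : Module.length A (Nor A ⧸ i.asIdeal) = 1 := by
      refine le_antisymm ?_ (hone i)
      have hsplit := Finset.add_sum_erase Finset.univ (fun j : MaximalSpectrum (Nor A) => Module.length A (Nor A ⧸ j.asIdeal))
        (Finset.mem_univ i)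
      rw [hS] at hsplit
      have hrest : (((Finset.univ.erase i).card : ℕ) : ℕ∞) ≤ ∑ j ∈ Finset.univ.erase i, Module.length A (Nor A ⧸ j.asIdeal) := by
        refine le_trans (le_of_eq ?_) (Finset.sum_le_sum fun j _ => hone j)
        simp
      have hle : Module.length A (Nor A ⧸ i.asIdeal) + ((Finset.univ.erase i).card : ℕ) ≤ (S : ℕ∞) :=
        hsplit ▸ add_le_add le_rfl hrest
      obtain ⟨l, hl⟩ := ENat.ne_top_iff_exists.1 (ne_top_of_le_ne_top (ENat.coe_ne_top S) (le_self_add.trans hle))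
      rw [← hl] at hle ⊢
      rw [Finset.card_erase_of_mem (Finset.mem_univ i), Finset.card_univ, ← Nat.card_eq_fintype_card] at hle
      norm_cast at hle ⊢
      omega
    haveI : IsSimpleModule A (Nor A ⧸ i.asIdeal) := Module.length_eq_one_iff.1 h1
    rcases IsSimpleOrder.eq_bot_or_eq_top (LinearMap.range (Algebra.linearMap A (Nor A ⧸ i.asIdeal))) with hb | ht
    · haveI := i.isMaximal
      haveI : Nontrivial (Nor A ⧸ i.asIdeal) := Ideal.Quotient.nontrivial_iff.2 Ideal.IsPrime.ne_top'
      have h01 : (1 : Nor A ⧸ i.asIdeal) ∈ LinearMap.range (Algebra.linearMap A (Nor A ⧸ i.asIdeal)) :=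
        ⟨1, map_one (algebraMap A (Nor A ⧸ i.asIdeal))⟩
      rw [hb] at h01
      exact absurd ((Submodule.mem_bot A).1 h01) one_ne_zero
    · exact LinearMap.range_eq_top.1 ht
  · have h1 : q (Submodule.Quotient.mk z) = 0 := by
      refine (Submodule.Quotient.mk_eq_zero _).2 ⟨a, funext fun i => ?_⟩
      exact ((Ideal.Quotient.eq).2 (hz i)).symm
    obtain ⟨b, hb⟩ := (Submodule.Quotient.mk_eq_zero _).1 (hK0 (h1.trans (map_zero q).symm))
    exact ⟨b, hb⟩

end Groth.Agent.DeltaBC
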