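import Groth.Agent.DeltaBCLib.Main
import Groth.Agent.DeltaBCLib.Wedge

/-!
# Invariants of the multicross ring
-/

set_option autoImplicit false
set_option linter.style.haveILetI false
set_option backward.isDefEq.respectTransparency false

universe u

open IsLocalRing

noncomputable section

namespace Groth.Agent.DeltaBC

variable {k : Type u} [Field k]

/-- The δ-invariant and the number of branches of a multicross ring. -/
theorem invariants_of_multicross (R : Type u) [CommRing R] [IsLocalRing R] (n : ℕ)
    (φ : R →+* (Fin n → PowerSeries k)) (hφ : Function.Injective φ)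
    (hrange : Set.range φ = {f : Fin n → PowerSeries k | ∀ i j : Fin n,
        PowerSeries.constantCoeff (f i) = PowerSeries.constantCoeff (f j)}) :
    Curv2.deltaInv R + 1 = n ∧ Nat.card (MaximalSpectrum (Nor R)) = n := by
  classical
  obtain ⟨m, rfl⟩ : ∃ m, n = m + 1 := by
    rcases n with _ | m
    · exact absurd (hφ (Subsingleton.elim (φ 0) (φ 1))) zero_ne_one
    · exact ⟨m, rfl⟩
  have hmem : ∀ f : (Fin (m + 1) → PowerSeries k), (∀ i j, PowerSeries.constantCoeff (f i) = PowerSeries.constantCoeff (f j)) → ∃ r, φ r = f := fun f hf => by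
    have : f ∈ Set.range φ := by rw [hrange]; exact hf
    exact this
  obtain ⟨T, hT⟩ := hmem (fun _ => PowerSeries.X) fun _ _ => rfl
  have hTnzd : T ∈ nonZeroDivisors R := mem_nonZeroDivisors_iff_right.2 fun r hr => hφ (by
    funext i
    have h := congrFun (congrArg φ hr) i
    rw [map_mul, hT, map_zero] at h
    rw [map_zero]
    exact (mul_eq_zero.1 h).resolve_right PowerSeries.X_ne_zero)
  choose r hr using fun p : (Fin (m + 1) → PowerSeries k) => hmem (fun i => PowerSeries.X * p i) fun i j => by simp
  let Q := FractionRing R
  let ω₀ : (Fin (m + 1) → PowerSeries k) → Q := fun p => IsLocalization.mk' Q (r p) (⟨T, hTnzd⟩ : nonZeroDivisors R)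
  have hω : ∀ p q, φ q = (fun i => PowerSeries.X * p i) → ω₀ p = IsLocalization.mk' Q q (⟨T, hTnzd⟩ : nonZeroDivisors R) := fun p q hq => by
    rw [show q = r p from hφ (hq.trans (hr p).symm)]
  have hωalg : ∀ a, ω₀ (φ a) = algebraMap R Q a := fun a => by
    rw [hω (φ a) (a * T) (by funext i; rw [map_mul, hT]; exact mul_comm _ _)]
    exact IsLocalization.mk'_mul_cancel_right a (⟨T, hTnzd⟩ : nonZeroDivisors R)
  have hωadd : ∀ p q, ω₀ (p + q) = ω₀ p + ω₀ q := fun p q => by
    rw [hω (p + q) (r p + r q) (by funext i; rw [map_add, hr, hr]; simp [mul_add])]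
    show IsLocalization.mk' Q (r p + r q) _ = IsLocalization.mk' Q (r p) _ + IsLocalization.mk' Q (r q) _
    rw [IsLocalization.mk'_eq_mul_mk'_one, map_add, add_mul, ← IsLocalization.mk'_eq_mul_mk'_one, ← IsLocalization.mk'_eq_mul_mk'_one]
  have hωmul : ∀ p q, ω₀ (p * q) = ω₀ p * ω₀ q := fun p q => by
    show IsLocalization.mk' Q (r (p * q)) _ = _
    rw [← IsLocalization.mk'_mul, IsLocalization.mk'_eq_iff_eq]
    congr 1
    refine hφ (funext fun i => ?_)
    simp only [map_mul, hT, hr, Pi.mul_apply, Submonoid.coe_mul]
    ring
  let ω' : (Fin (m + 1) → PowerSeries k) →+* Q :=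
    { toFun := ω₀, map_one' := (congrArg ω₀ φ.map_one).symm.trans ((hωalg 1).trans (map_one _)),
      map_zero' := (congrArg ω₀ φ.map_zero).symm.trans ((hωalg 0).trans (map_zero _)), map_add' := hωadd, map_mul' := hωmul }
  have hint : ∀ p, IsIntegral R (ω' p) := by
    intro p
    have hidem : ∀ i, IsIntegral R (ω' (Pi.single i 1)) := fun i => by
      refine ⟨Polynomial.X ^ 2 - Polynomial.X, Polynomial.monic_X_pow_sub (by simp), ?_⟩
      rw [Polynomial.eval₂_sub, Polynomial.eval₂_X_pow, Polynomial.eval₂_X, sq, ← map_mul, ← Pi.single_mul, one_mul, sub_self]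
    obtain ⟨a, ha⟩ := hmem (fun i => p i - PowerSeries.C (PowerSeries.constantCoeff (p i))) fun i j => by simp
    have hp : p = φ a + ∑ i, (fun _ => PowerSeries.C (PowerSeries.constantCoeff (p i))) * Pi.single i 1 := by
      funext j
      rw [Pi.add_apply, Finset.sum_apply, ha, Finset.sum_eq_single j (fun i _ hij => by simp [Pi.single_eq_of_ne (Ne.symm hij)])
        (fun h => absurd (Finset.mem_univ j) h)]
      simp
    rw [hp, map_add, map_sum]
    refine IsIntegral.add (by rw [show ω' (φ a) = algebraMap R Q a from hωalg a]; exact isIntegral_algebraMap)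
      (IsIntegral.sum _ fun i _ => ?_)
    obtain ⟨c, hc⟩ := hmem (fun _ => PowerSeries.C (PowerSeries.constantCoeff (p i))) fun _ _ => rfl
    rw [map_mul, ← hc, show ω' (φ c) = algebraMap R Q c from hωalg c]
    exact isIntegral_algebraMap.mul (hidem i)
  let ω : (Fin (m + 1) → PowerSeries k) →+* Nor R := ω'.codRestrict (integralClosure R Q).toSubring hint
  have hωinj : Function.Injective ω := fun p q h => by
    have h1 : IsLocalization.mk' Q (r p) (⟨T, hTnzd⟩ : nonZeroDivisors R) = IsLocalization.mk' Q (r q) ⟨T, hTnzd⟩ :=
      congrArg Subtype.val h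
    rw [IsLocalization.mk'_eq_iff_eq] at h1
    have h2 : (fun i => PowerSeries.X * p i) = fun i => PowerSeries.X * q i := by
      rw [← hr, ← hr]
      exact congrArg φ ((hTnzd.1 _ (by
        rw [mul_sub, sub_eq_zero]; exact IsFractionRing.injective R Q h1)) |> sub_eq_zero.1)
    exact funext fun i => mul_left_cancel₀ PowerSeries.X_ne_zero (congrFun h2 i)
  have hωsurj : Function.Surjective ω := by
    rintro ⟨z, hz⟩
    obtain ⟨a, s, rfl⟩ := IsLocalization.exists_mk'_eq (nonZeroDivisors R) z
    have hs : ∀ i, φ s i ≠ 0 := fun i h0 => by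
      obtain ⟨c, hc⟩ := hmem (Pi.single i PowerSeries.X) fun a b => by
        rw [Pi.single_apply, Pi.single_apply]
        split_ifs <;> simp
      have h1 : c * s = 0 := hφ (by
        funext j
        rw [map_mul, hc, map_zero]
        rcases eq_or_ne j i with rfl | hji
        · simp [h0]
        · simp [Pi.single_eq_of_ne hji])
      have h2 := congrFun (congrArg φ (mem_nonZeroDivisors_iff_right.1 s.2 c h1)) i
      rw [hc, map_zero, Pi.single_eq_same] at h2
      exact PowerSeries.X_ne_zero h2
    let Ki := FractionRing (PowerSeries k)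
    have hunit : ∀ i (t : nonZeroDivisors R), IsUnit ((algebraMap (PowerSeries k) Ki).comp ((Pi.evalRingHom (fun _ => PowerSeries k) i).comp φ) t) := by
      intro i t
      refine IsUnit.mk0 _ fun h0 => ?_
      rw [RingHom.comp_apply, map_eq_zero_iff _ (IsFractionRing.injective (PowerSeries k) Ki)] at h0
      obtain ⟨c, hc⟩ := hmem (Pi.single i PowerSeries.X) fun a b => by
        rw [Pi.single_apply, Pi.single_apply]
        split_ifs <;> simp
      have h1 : c * t = 0 := hφ (by
        funext j
        rw [map_mul, hc, map_zero]
        rcases eq_or_ne j i with rfl | hji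
        · simp [show φ t j = 0 from h0]
        · simp [Pi.single_eq_of_ne hji])
      have h2 := congrFun (congrArg φ (mem_nonZeroDivisors_iff_right.1 t.2 c h1)) i
      rw [hc, map_zero, Pi.single_eq_same] at h2
      exact PowerSeries.X_ne_zero h2
    have hq : ∀ i, ∃ q : PowerSeries k, q * φ s i = φ a i := fun i => by
      let η : R →+* PowerSeries k := (Pi.evalRingHom (fun _ => PowerSeries k) i).comp φ
      let Θ : Q →+* Ki := IsLocalization.lift (hunit i)
      have hΘ : IsIntegral (PowerSeries k) (Θ (IsLocalization.mk' Q a s)) :=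
        hz.map_of_comp_eq η Θ (IsLocalization.lift_comp (hunit i)).symm
      obtain ⟨q, hq⟩ := (isIntegrallyClosed_iff Ki).1 inferInstance hΘ
      refine ⟨q, IsFractionRing.injective (PowerSeries k) Ki ?_⟩
      rw [map_mul, hq]
      have h1 := congrArg Θ (IsLocalization.mk'_spec Q a s)
      rw [map_mul, IsLocalization.lift_eq, IsLocalization.lift_eq] at h1
      exact h1
    choose q hq using hq
    refine ⟨q, Subtype.ext ?_⟩
    show ω' q = _
    rw [IsLocalization.eq_mk'_iff_mul_eq, ← show ω' (φ s) = algebraMap R Q s from hωalg s,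
      ← show ω' (φ a) = algebraMap R Q a from hωalg a, ← map_mul]
    exact congrArg ω' (funext hq)
  let E : (Fin (m + 1) → PowerSeries k) ≃+* Nor R := RingEquiv.ofBijective ω ⟨hωinj, hωsurj⟩
  have hE : ∀ a, E (φ a) = algebraMap R (Nor R) a := fun a => Subtype.ext (hωalg a)
  constructor
  · -- the δ-invariant
    let ev : R →+* k := PowerSeries.constantCoeff.comp ((Pi.evalRingHom (fun _ => PowerSeries k) 0).comp φ)
    have hev : Function.Surjective ev := fun c => by
      obtain ⟨a, ha⟩ := hmem (fun _ => PowerSeries.C c) fun _ _ => rfl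
      exact ⟨a, by show PowerSeries.constantCoeff (φ a 0) = c; rw [ha]; exact PowerSeries.constantCoeff_C c⟩
    letI := ev.toAlgebra
    let D : Nor R →ₗ[R] (Fin m → k) :=
      { toFun := fun z i => PowerSeries.constantCoeff (E.symm z i.succ) - PowerSeries.constantCoeff (E.symm z 0)
        map_add' := fun x y => funext fun i => by simp [map_add]; ring
        map_smul' := fun c x => funext fun i => by
          have h1 : E.symm (c • x) = φ c * E.symm x := E.injective (by
            rw [E.apply_symm_apply, map_mul, hE, E.apply_symm_apply, Algebra.smul_def])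
          show _ = ev c * _
          rw [h1, Pi.mul_apply, Pi.mul_apply, map_mul, map_mul]
          have h2 : PowerSeries.constantCoeff (φ c i.succ) = ev c := by
            have : φ c ∈ Set.range φ := ⟨c, rfl⟩
            rw [hrange] at this
            exact this _ _
          rw [h2, show PowerSeries.constantCoeff (φ c 0) = ev c from rfl]
          ring }
    have hDs : Function.Surjective D := fun v => ⟨E (Fin.cons 0 fun i => PowerSeries.C (v i)), funext fun i => by simp [D]⟩
    have hker : LinearMap.ker D = LinearMap.range (Algebra.linearMap R (Nor R)) := by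
      ext z
      constructor
      · intro h
        obtain ⟨a, ha⟩ := hmem (E.symm z) fun i j => by
          have h0 : ∀ i : Fin (m + 1), PowerSeries.constantCoeff (E.symm z i) = PowerSeries.constantCoeff (E.symm z 0) := by
            intro i
            induction i using Fin.cases with
            | zero => rfl
            | succ i => exact sub_eq_zero.1 (congrFun h i)
          rw [h0 i, h0 j]
        exact ⟨a, (hE a).symm.trans (by rw [ha, E.apply_symm_apply])⟩
      · rintro ⟨a, rfl⟩
        refine funext fun i => sub_eq_zero.2 ?_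
        rw [show E.symm ((Algebra.linearMap R (Nor R)) a) = φ a from E.injective (by rw [E.apply_symm_apply, hE]; rfl)]
        have : φ a ∈ Set.range φ := ⟨a, rfl⟩
        rw [hrange] at this
        exact this _ _
    have hlen : Module.length R (Fin m → k) = m := by
      rw [Module.length_eq_of_surjective (S := R) (R := k) hev, Module.length_eq_finrank, Module.finrank_fin_fun]
    have he := ((Submodule.quotEquivOfEq _ _ hker.symm).trans (D.quotKerEquivOfSurjective hDs)).length_eq
    rw [hlen] at he
    show Module.length R _ + 1 = _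
    rw [he]
    exact_mod_cast rfl
  · -- maximal ideals
    let M : Fin (m + 1) → MaximalSpectrum (Fin (m + 1) → PowerSeries k) := fun i =>
      ⟨RingHom.ker (PowerSeries.constantCoeff.comp (Pi.evalRingHom (fun _ => PowerSeries k) i)),
        RingHom.ker_isMaximal_of_surjective _ fun c => ⟨fun _ => PowerSeries.C c, PowerSeries.constantCoeff_C c⟩⟩
    have hM : Function.Bijective M := by
      refine ⟨fun i j h => ?_, fun I => ?_⟩
      · by_contra hij
        have h1 : (Pi.single i 1 : (Fin (m + 1) → PowerSeries k)) ∈ (M j).asIdeal := by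
          show PowerSeries.constantCoeff ((Pi.single i 1 : (Fin (m + 1) → PowerSeries k)) j) = 0
          rw [Pi.single_eq_of_ne (Ne.symm hij), map_zero]
        rw [← h] at h1
        change PowerSeries.constantCoeff ((Pi.single i 1 : (Fin (m + 1) → PowerSeries k)) i) = 0 at h1
        rw [Pi.single_eq_same, map_one] at h1
        exact one_ne_zero h1
      · haveI := I.isMaximal
        obtain ⟨i, hi⟩ : ∃ i, (Pi.single i 1 : (Fin (m + 1) → PowerSeries k)) ∉ I.asIdeal := by
          by_contra hall
          push Not at hall
          refine I.isMaximal.ne_top (I.asIdeal.eq_top_iff_one.2 ?_)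
          rw [show (1 : (Fin (m + 1) → PowerSeries k)) = ∑ i, Pi.single i 1 from (Finset.univ_sum_single (fun _ => (1 : PowerSeries k))).symm]
          exact Ideal.sum_mem _ fun i _ => hall i
        refine ⟨i, MaximalSpectrum.ext (I.isMaximal.eq_of_le (M i).isMaximal.ne_top fun p hp => ?_).symm⟩
        by_contra hne
        obtain ⟨u, hu⟩ : IsUnit (p i) := PowerSeries.isUnit_iff_constantCoeff.2 (isUnit_iff_ne_zero.2 hne)
        refine hi ?_
        have : (Pi.single i 1 : (Fin (m + 1) → PowerSeries k)) = Pi.single i ((↑u⁻¹ : PowerSeries k)) * p := by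
          funext j
          rcases eq_or_ne j i with rfl | hji
          · rw [Pi.mul_apply, Pi.single_eq_same, Pi.single_eq_same, ← hu, Units.inv_mul]
          · rw [Pi.mul_apply, Pi.single_eq_of_ne hji, Pi.single_eq_of_ne hji, zero_mul]
        rw [this]
        exact Ideal.mul_mem_left _ _ hp
    let E' : MaximalSpectrum (Nor R) → MaximalSpectrum (Fin (m + 1) → PowerSeries k) := fun I =>
      ⟨I.asIdeal.comap E.toRingHom, haveI := I.isMaximal; Ideal.comap_isMaximal_of_surjective _ E.surjective⟩
    have hE' : Function.Bijective E' := by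
      refine ⟨fun I J h => MaximalSpectrum.ext (Ideal.comap_injective_of_surjective E.toRingHom E.surjective
        (congrArg MaximalSpectrum.asIdeal h)), fun J => ⟨⟨J.asIdeal.comap E.symm.toRingHom, ?_⟩, MaximalSpectrum.ext ?_⟩⟩
      · haveI := J.isMaximal
        exact Ideal.comap_isMaximal_of_surjective _ E.symm.surjective
      · ext z
        show E.symm (E z) ∈ J.asIdeal ↔ _
        rw [E.symm_apply_apply]
    rw [Nat.card_eq_of_bijective E' hE', ← Nat.card_eq_of_bijective M hM, Nat.card_fin]

open MvPowerSeries in
/-- The coordinate axes quotient is a multicross ring. -/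
theorem exists_axes (k : Type u) [Field k] (n : ℕ) :
    ∃ θ : MvPowerSeries (Fin n) k →+* (Fin n → PowerSeries k),
      (∀ c, θ (MvPowerSeries.C c) = fun _ => PowerSeries.C c) ∧
      (0 < n → RingHom.ker θ = Ideal.span {f : MvPowerSeries (Fin n) k |
        ∃ i j : Fin n, i ≠ j ∧ f = MvPowerSeries.X i * MvPowerSeries.X j}) ∧
      Set.range θ = {f : Fin n → PowerSeries k | ∀ i j : Fin n,
        PowerSeries.constantCoeff (f i) = PowerSeries.constantCoeff (f j)} := by
  classical
  let θ : MvPowerSeries (Fin n) k →+* (Fin n → PowerSeries k) :=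
    { toFun := fun f i => PowerSeries.mk fun d => coeff (Finsupp.single i d) f
      map_one' := funext fun i => PowerSeries.ext fun d => by
        rw [PowerSeries.coeff_mk, Pi.one_apply, PowerSeries.coeff_one, coeff_one]
        simp [Finsupp.single_eq_zero]
      map_zero' := funext fun i => PowerSeries.ext fun d => by simp
      map_add' := fun f g => funext fun i => PowerSeries.ext fun d => by simp
      map_mul' := fun f g => funext fun i => PowerSeries.ext fun d => by
        rw [PowerSeries.coeff_mk, Pi.mul_apply, PowerSeries.coeff_mul, coeff_mul, Finsupp.antidiagonal_single,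
          Finset.sum_map]
        simp }
  refine ⟨θ, fun c => funext fun i => PowerSeries.ext fun d => ?_, fun hn => ?_, Set.ext fun p => ⟨?_, fun hp => ?_⟩⟩
  · show PowerSeries.coeff d (PowerSeries.mk fun d => coeff (Finsupp.single i d) (C c)) = _
    rw [PowerSeries.coeff_mk, coeff_C, PowerSeries.coeff_C]
    simp [Finsupp.single_eq_zero]
  · refine le_antisymm (fun f hf => ?_) (Ideal.span_le.2 ?_)
    · let P : Fin n → Fin n → (Fin n →₀ ℕ) → Prop := fun a b d =>
        a < b ∧ d a ≠ 0 ∧ d b ≠ 0 ∧ (∀ c, d c ≠ 0 → a ≤ c) ∧ ∀ c, d c ≠ 0 → c ≠ a → b ≤ c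
      let g : Fin n → Fin n → MvPowerSeries (Fin n) k := fun a b d =>
        if P a b (d + (Finsupp.single a 1 + Finsupp.single b 1)) then coeff (d + (Finsupp.single a 1 + Finsupp.single b 1)) f else 0
      have hf' : f = ∑ a, ∑ b, X a * X b * g a b := by
        ext d
        simp only [map_sum]
        have hterm : ∀ a b, coeff d (X a * X b * g a b) = if P a b d then coeff d f else 0 := by
          intro a b
          rw [X, X, monomial_mul_monomial, one_mul, coeff_monomial_mul, one_mul]
          by_cases hP : P a b d
          · have hle : Finsupp.single a 1 + Finsupp.single b 1 ≤ d := fun c => by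
              have hab : a ≠ b := hP.1.ne
              rcases eq_or_ne c a with rfl | hca
              · simp [Finsupp.single_eq_of_ne hab]; exact Nat.one_le_iff_ne_zero.2 hP.2.1
              rcases eq_or_ne c b with rfl | hcb
              · simp [Finsupp.single_eq_of_ne hca]; exact Nat.one_le_iff_ne_zero.2 hP.2.2.1
              · simp [Finsupp.single_eq_of_ne hca, Finsupp.single_eq_of_ne hcb]
            rw [if_pos hle, coeff_apply]
            show (if P a b (d - _ + _) then _ else _) = _
            rw [tsub_add_cancel_of_le hle]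
          · rw [if_neg hP]
            split_ifs with hle
            · rw [coeff_apply]
              show (if P a b (d - _ + _) then _ else _) = _
              rw [tsub_add_cancel_of_le hle, if_neg hP]
            · rfl
        simp only [hterm]
        by_cases hd : d.support.card ≤ 1
        · have h0 : coeff d f = 0 := by
            obtain ⟨i, e, rfl⟩ : ∃ i e, d = Finsupp.single i e := by
              rcases Nat.le_one_iff_eq_zero_or_eq_one.1 hd with h | h
              · exact ⟨⟨0, hn⟩, 0, by rw [Finsupp.single_zero]; exact Finsupp.support_eq_empty.1 (Finset.card_eq_zero.1 h)⟩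
              · obtain ⟨i, b, -, rfl⟩ := Finsupp.card_support_eq_one'.1 h
                exact ⟨i, b, rfl⟩
            have h := congrArg (PowerSeries.coeff e) (congrFun (RingHom.mem_ker.1 hf) i)
            change PowerSeries.coeff e (PowerSeries.mk fun d => coeff (Finsupp.single i d) f) = _ at h
            rw [PowerSeries.coeff_mk] at h
            simpa using h
          simp [h0]
        · push Not at hd
          have hne : d.support.Nonempty := Finset.card_pos.1 (by omega)
          let a := d.support.min' hne
          have hne' : (d.support.erase a).Nonempty := by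
            rw [← Finset.card_pos, Finset.card_erase_of_mem (Finset.min'_mem _ _)]; omega
          let b := (d.support.erase a).min' hne'
          have hb := Finset.mem_erase.1 (Finset.min'_mem _ hne')
          have hab : P a b d := ⟨lt_of_le_of_ne (Finset.min'_le _ _ hb.2) (Ne.symm hb.1),
            Finsupp.mem_support_iff.1 (Finset.min'_mem _ hne), Finsupp.mem_support_iff.1 hb.2,
            fun c hc => Finset.min'_le _ _ (Finsupp.mem_support_iff.2 hc),
            fun c hc hca => Finset.min'_le _ _ (Finset.mem_erase.2 ⟨hca, Finsupp.mem_support_iff.2 hc⟩)⟩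
          have huniq : ∀ a' b', P a' b' d → a' = a ∧ b' = b := fun a' b' h => by
            have ha : a' = a := le_antisymm (h.2.2.2.1 a hab.2.1) (hab.2.2.2.1 a' h.2.1)
            subst ha
            exact ⟨rfl, le_antisymm (h.2.2.2.2 b hab.2.2.1 hab.1.ne') (hab.2.2.2.2 b' h.2.2.1 h.1.ne')⟩
          rw [Finset.sum_eq_single a (fun a' _ ha' => Finset.sum_eq_zero fun b' _ => if_neg fun h => ha' (huniq _ _ h).1)
            (fun h => absurd (Finset.mem_univ a) h),
            Finset.sum_eq_single b (fun b' _ hb' => if_neg fun h => hb' (huniq _ _ h).2)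
            (fun h => absurd (Finset.mem_univ b) h), if_pos hab]
      rw [hf']
      refine Ideal.sum_mem _ fun a _ => Ideal.sum_mem _ fun b _ => ?_
      rcases eq_or_ne a b with rfl | hab
      · have : g a a = (0 : MvPowerSeries (Fin n) k) := MvPowerSeries.ext fun d => by
          rw [map_zero, coeff_apply]
          exact if_neg fun h => lt_irrefl a h.1
        rw [this, mul_zero]; exact zero_mem _
      · exact Ideal.mul_mem_right _ _ (Ideal.subset_span ⟨a, b, hab, rfl⟩)
    · rintro _ ⟨a, b, hab, rfl⟩
      refine (RingHom.mem_ker (f := θ)).2 (funext fun i => PowerSeries.ext fun d => ?_)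
      show PowerSeries.coeff d (PowerSeries.mk fun d => coeff (Finsupp.single i d) (X a * X b : MvPowerSeries (Fin n) k)) = _
      rw [PowerSeries.coeff_mk, X, X, monomial_mul_monomial, coeff_monomial, if_neg]
      · simp
      · intro h
        have h1 := congrArg (fun v => v a) h
        have h2 := congrArg (fun v => v b) h
        rcases eq_or_ne i a with rfl | hia
        · simp [Finsupp.single_eq_of_ne hab, Finsupp.single_eq_of_ne (Ne.symm hab)] at h2
        · simp [Finsupp.single_eq_of_ne hia, Finsupp.single_eq_of_ne (Ne.symm hia), Finsupp.single_eq_of_ne hab] at h1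
  · rintro ⟨f, rfl⟩ i j
    show PowerSeries.constantCoeff (PowerSeries.mk fun d => coeff (Finsupp.single i d) f) =
      PowerSeries.constantCoeff (PowerSeries.mk fun d => coeff (Finsupp.single j d) f)
    simp [← PowerSeries.coeff_zero_eq_constantCoeff]
  · let f : MvPowerSeries (Fin n) k := fun d =>
      ∑ i : Fin n, if d.support = {i} then PowerSeries.coeff (d i) (p i) else 0
    let c₀ : k := if h : 0 < n then PowerSeries.constantCoeff (p ⟨0, h⟩) else 0
    refine ⟨f + C c₀, funext fun i => PowerSeries.ext fun d => ?_⟩
    show PowerSeries.coeff d (PowerSeries.mk fun d => coeff (Finsupp.single i d) (f + C c₀)) = _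
    rw [PowerSeries.coeff_mk, map_add, coeff_apply, coeff_C]
    show (∑ j : Fin n, if (Finsupp.single i d).support = {j} then PowerSeries.coeff (Finsupp.single i d j) (p j) else 0) + _ = _
    rcases eq_or_ne d 0 with rfl | hd
    · rw [Finset.sum_eq_zero (fun j _ => if_neg (by simp [eq_comm])), zero_add, Finsupp.single_zero, if_pos rfl,
        PowerSeries.coeff_zero_eq_constantCoeff]
      simp only [c₀, dif_pos i.pos]
      exact hp _ _
    · rw [if_neg (by simpa using hd), add_zero, Finset.sum_eq_single i (fun j _ hji => if_neg (by
        rw [Finsupp.support_single_ne_zero _ hd, Finset.singleton_inj]; exact Ne.symm hji)) (fun h => absurd (Finset.mem_univ i) h),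
        if_pos (Finsupp.support_single_ne_zero _ hd), Finsupp.single_eq_same]

end Groth.Agent.DeltaBC
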