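import Groth.Agent.DeltaBCLib.Local
import Groth.Agent.DeltaBCLib.Branches
import Groth.Agent.DeltaBCLib.MulticrossInv
import Groth.Agent.RegLocal.Completion
import Groth.Agent.NagataLib.Completion
import Groth.Agent.S0568

/-!
# Branches of the completion
-/

set_option autoImplicit false
set_option linter.style.haveILetI false
set_option backward.isDefEq.respectTransparency false

universe u

open TensorProduct IsLocalRing

noncomputable section

namespace Groth.Agent.DeltaBC

variable (A : Type u) [CommRing A] [IsLocalRing A] (B : Type u) [CommRing B] [IsLocalRing B] [Algebra A B]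
  [IsLocalHom (algebraMap A B)] [Module.FaithfullyFlat A B] [IsNoetherianRing B] [_root_.IsReduced A]

/-- Flat extensions inducing an isomorphism of residue fields keep the maximal ideals of the normalization. -/
theorem card_maximal_of_trivial_residue (hN : CAlg.IsNagata A) (hdim : ringKrullDim A = 1)
    (hm : (maximalIdeal A).map (algebraMap A B) = maximalIdeal B)
    (hres : ∀ y : B, ∃ a : A, y - algebraMap A B a ∈ maximalIdeal B) :
    Nat.card (MaximalSpectrum (Nor B)) = Nat.card (MaximalSpectrum (Nor A)) := by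
  haveI := hN.1
  obtain ⟨hfin, hnor, -⟩ := S7652.result A hN hdim
  haveI : Module.Finite A (Nor A) := hfin
  haveI : Algebra.IsIntegral A (Nor A) := Algebra.IsIntegral.of_finite A _
  have hsep : Algebra.IsSeparable (ResidueField A) (ResidueField B) := ⟨fun y => by
    obtain ⟨y, rfl⟩ := residue_surjective y
    obtain ⟨a, ha⟩ := hres y
    rw [show residue B y = algebraMap (ResidueField A) (ResidueField B) (residue A a) from Ideal.Quotient.eq.2 ha]
    exact isSeparable_algebraMap _⟩
  have hbij : Function.Bijective (toNor A B) := ⟨toNor_injective, toNor_surjective hnor hdim (hm ▸ Ideal.le_radical)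
    fun n' hn' => by
      haveI := hn'
      letI : Field (Nor A ⧸ n') := Ideal.Quotient.field _
      refine isReduced_fibre A B hm hsep (Nor A ⧸ n') fun a ha => ?_
      rw [RingHom.mem_ker, IsScalarTower.algebraMap_apply A (Nor A) (Nor A ⧸ n'), Ideal.Quotient.algebraMap_eq,
        Ideal.Quotient.eq_zero_iff_mem, ← Ideal.mem_comap,
        eq_maximalIdeal (Ideal.isMaximal_comap_of_isIntegral_of_isMaximal (R := A) n')]
      exact ha⟩
  let C := B ⊗[A] Nor A
  let E : C ≃+* Nor B := RingEquiv.ofBijective (toNor A B) hbij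
  let ι : Nor A →ₐ[A] C := Algebra.TensorProduct.includeRight
  haveI : Algebra.IsIntegral B C := Algebra.IsIntegral.of_finite B C
  have hcl : ∀ n : Ideal C, n.IsMaximal → ∀ a ∈ maximalIdeal B, algebraMap B C a ∈ n := fun n hn a ha => by
    haveI := hn
    rw [← Ideal.mem_comap, eq_maximalIdeal (Ideal.isMaximal_comap_of_isIntegral_of_isMaximal (R := B) n)]
    exact ha
  -- every element agrees with one from below modulo the maximal ideal of `B`
  have hap : ∀ c : C, ∃ z : Nor A, c - ι z ∈ (maximalIdeal B).map (algebraMap B C) := fun c => by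
    induction c using TensorProduct.induction_on with
    | zero => exact ⟨0, by simp⟩
    | add x y hx hy =>
      obtain ⟨z, hz⟩ := hx
      obtain ⟨w, hw⟩ := hy
      exact ⟨z + w, by rw [map_add, add_sub_add_comm]; exact add_mem hz hw⟩
    | tmul b z =>
      obtain ⟨a, ha⟩ := hres b
      refine ⟨a • z, ?_⟩
      rw [show ι (a • z) = algebraMap A B a ⊗ₜ[A] z by
        show (1 : B) ⊗ₜ[A] (a • z) = _
        rw [← TensorProduct.smul_tmul, Algebra.algebraMap_eq_smul_one], ← TensorProduct.sub_tmul,
        show (b - algebraMap A B a) ⊗ₜ[A] z = algebraMap B C (b - algebraMap A B a) * ((1 : B) ⊗ₜ[A] z) by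
          rw [Algebra.TensorProduct.algebraMap_apply, Algebra.TensorProduct.tmul_mul_tmul, mul_one, one_mul]; rfl]
      exact Ideal.mul_mem_right _ _ (Ideal.mem_map_of_mem _ ha)
  have hmax : ∀ n : MaximalSpectrum C, (n.asIdeal.comap ι).IsMaximal := fun n => by
    haveI := n.isMaximal
    refine Ideal.isMaximal_of_isIntegral_of_isMaximal_comap (R := A) _ ?_
    have : (n.asIdeal.comap ι).comap (algebraMap A (Nor A)) = maximalIdeal A := by
      refine ((maximalIdeal.isMaximal A).eq_of_le (Ideal.IsPrime.comap (algebraMap A (Nor A))).ne_top fun a ha => ?_).symm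
      show ι (algebraMap A (Nor A) a) ∈ n.asIdeal
      rw [ι.commutes, IsScalarTower.algebraMap_apply A B C]
      exact hcl _ n.isMaximal _ (hm ▸ Ideal.mem_map_of_mem _ ha)
    rw [this]
    exact maximalIdeal.isMaximal A
  let F : MaximalSpectrum C → MaximalSpectrum (Nor A) := fun n => ⟨_, hmax n⟩
  have hF : Function.Bijective F := by
    refine ⟨fun n n' h => MaximalSpectrum.ext ?_, fun i => ?_⟩
    · have h' : n.asIdeal.comap ι = n'.asIdeal.comap ι := congrArg MaximalSpectrum.asIdeal h
      have hle : ∀ m : MaximalSpectrum C, (maximalIdeal B).map (algebraMap B C) ≤ m.asIdeal := fun m =>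
        Ideal.map_le_iff_le_comap.2 fun a ha => hcl _ m.isMaximal a ha
      ext c
      obtain ⟨z, hz⟩ := hap c
      rw [← sub_add_cancel c (ι z), Submodule.add_mem_iff_right _ (hle n hz), Submodule.add_mem_iff_right _ (hle n' hz)]
      exact SetLike.ext_iff.1 h' z
    · haveI := i.isMaximal
      haveI : Module.FaithfullyFlat (Nor A) (Nor A ⊗[A] B) := inferInstance
      have hsurj : Function.Surjective (PrimeSpectrum.comap (algebraMap (Nor A) (Nor A ⊗[A] B))) :=
        PrimeSpectrum.comap_surjective_of_faithfullyFlat (A := Nor A) (B := Nor A ⊗[A] B)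
      obtain ⟨Q, hQ⟩ := hsurj ⟨i.asIdeal, inferInstance⟩
      let cm := Algebra.TensorProduct.comm A B (Nor A)
      obtain ⟨N, hN', hQN⟩ := Ideal.exists_le_maximal (Q.asIdeal.comap cm.toRingEquiv.toRingHom) Ideal.IsPrime.ne_top'
      refine ⟨⟨N, hN'⟩, MaximalSpectrum.ext ((i.isMaximal.eq_of_le (hmax ⟨N, hN'⟩).ne_top fun z hz => hQN ?_).symm)⟩
      show cm (ι z) ∈ Q.asIdeal
      have hz' : z ∈ (PrimeSpectrum.comap (algebraMap (Nor A) (Nor A ⊗[A] B)) Q).asIdeal := by rw [hQ]; exact hz
      exact hz'
  let G : MaximalSpectrum (Nor B) → MaximalSpectrum C := fun I =>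
    ⟨I.asIdeal.comap E.toRingHom, haveI := I.isMaximal; Ideal.comap_isMaximal_of_surjective _ E.surjective⟩
  have hG : Function.Bijective G := by
    refine ⟨fun I J h => MaximalSpectrum.ext (Ideal.comap_injective_of_surjective E.toRingHom E.surjective
      (congrArg MaximalSpectrum.asIdeal h)), fun J => ⟨⟨J.asIdeal.comap E.symm.toRingHom, ?_⟩, MaximalSpectrum.ext ?_⟩⟩
    · haveI := J.isMaximal
      exact Ideal.comap_isMaximal_of_surjective _ E.symm.surjective
    · ext z
      show E.symm (E z) ∈ J.asIdeal ↔ _
      rw [E.symm_apply_apply]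
  rw [Nat.card_eq_of_bijective G hG, Nat.card_eq_of_bijective F hF]

omit B in
/-- If the completion is a multicross with `n` branches, so is the ring. -/
theorem invariants_of_completion (hN : CAlg.IsNagata A) (hdim : ringKrullDim A = 1) {k : Type u} [Field k] (n : ℕ)
    (φ : AdicCompletion (maximalIdeal A) A →+* (Fin n → PowerSeries k)) (hφ : Function.Injective φ)
    (hrange : Set.range φ = {f : Fin n → PowerSeries k | ∀ i j : Fin n,
        PowerSeries.constantCoeff (f i) = PowerSeries.constantCoeff (f j)}) :
    Brnch.numBranches A = n ∧ Curv2.deltaInv A + 1 = n := by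
  haveI := hN.1
  obtain ⟨hfin, -, -⟩ := S7652.result A hN hdim
  haveI : Module.Finite A (Nor A) := hfin
  have hI : maximalIdeal A ≠ ⊤ := (maximalIdeal.isMaximal A).ne_top
  let Ah := AdicCompletion (maximalIdeal A) A
  haveI : IsLocalRing Ah := RegLocal.isLocalRing_completion A _ hI
  haveI := RegLocal.faithfullyFlat_completion A _ hI
  have hmax := RegLocal.maximalIdeal_completion A _ hI
  haveI : IsLocalHom (algebraMap A Ah) := by
    refine ((local_hom_TFAE _).out 0 2).mpr ?_
    rw [hmax]
  haveI : IsNoetherianRing Ah := RegLocal.isNoetherianRing_completion A _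
  have hres : ∀ y : Ah, ∃ a : A, y - algebraMap A Ah a ∈ maximalIdeal Ah := fun y => by
    obtain ⟨a, ha⟩ := Ideal.Quotient.mk_surjective ((AdicCompletion.evalOneₐ (maximalIdeal A)) y)
    refine ⟨a, ?_⟩
    rw [hmax, ← AdicCompletion.ker_evalOneₐ_eq_map _ (maximalIdeal A).fg_of_isNoetherianRing, RingHom.mem_ker,
      map_sub, sub_eq_zero]
    exact ha.symm
  obtain ⟨h1, h2⟩ := invariants_of_multicross Ah n φ hφ hrange
  refine ⟨?_, ?_⟩
  · rw [numBranches_eq, ← card_maximal_of_trivial_residue A Ah hN hdim hmax.symm hres, h2]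
  · rw [← deltaInv_eq_of_unramified A Ah hN hdim hmax.symm ⟨fun y => by
      obtain ⟨y, rfl⟩ := residue_surjective y
      obtain ⟨a, ha⟩ := hres y
      rw [show residue Ah y = algebraMap (ResidueField A) (ResidueField Ah) (residue A a) from Ideal.Quotient.eq.2 ha]
      exact isSeparable_algebraMap _⟩, h1]

end Groth.Agent.DeltaBC
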