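import Mathlib

/-!
# Power series expansions in discrete valuation rings with a field of representatives
-/

set_option autoImplicit false

universe u

open IsLocalRing PowerSeries

noncomputable section

namespace Groth.Agent.DeltaBC.Expansion

variable {k : Type u} [Field k] {L : Type u} [CommRing L] [Algebra k L] (t : L)

/-- Truncated rings. -/
abbrev Trunc (n : ℕ) : Type u := L ⧸ Ideal.span {t ^ n}

theorem mk_pow (n : ℕ) : (Ideal.Quotient.mk _ t : Trunc t n) ^ n = 0 := by
  rw [← map_pow, Ideal.Quotient.eq_zero_iff_mem]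
  exact Ideal.mem_span_singleton_self _

/-- Evaluation of polynomials. -/
def pev (n : ℕ) : Polynomial k →ₐ[k] Trunc t n := Polynomial.aeval (Ideal.Quotient.mk _ t : Trunc t n)

theorem pev_trunc (n : ℕ) (R : Polynomial k) :
    pev t n (trunc n (R : PowerSeries k)) = pev t n R := by
  have h : (Polynomial.X : Polynomial k) ^ n ∣ R - trunc n (R : PowerSeries k) := by
    rw [Polynomial.X_pow_dvd_iff]
    intro d hd
    rw [Polynomial.coeff_sub, coeff_trunc, if_pos hd, Polynomial.coeff_coe, sub_self]
  obtain ⟨c, hc⟩ := h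
  have := congrArg (pev t n) hc
  rw [map_sub, map_mul, map_pow, show pev t n Polynomial.X = Ideal.Quotient.mk _ t from
    Polynomial.aeval_X _, mk_pow, zero_mul, sub_eq_zero] at this
  exact this.symm

/-- Evaluation of power series. -/
def ev (n : ℕ) : PowerSeries k →+* Trunc t n where
  toFun p := pev t n (trunc n p)
  map_one' := by rw [← Polynomial.coe_one, pev_trunc, map_one]
  map_zero' := by rw [← Polynomial.coe_zero, pev_trunc, map_zero]
  map_add' p q := by rw [map_add, map_add]
  map_mul' p q := by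
    rw [← trunc_trunc_mul_trunc, ← Polynomial.coe_mul, pev_trunc, map_mul]

theorem ev_C (n : ℕ) (a : k) : ev t n (C a) = algebraMap k (Trunc t n) a := by
  show pev t n (trunc n (C a)) = _
  rw [← Polynomial.coe_C, pev_trunc]
  exact Polynomial.aeval_C _ _

theorem ev_X (n : ℕ) : ev t n (X : PowerSeries k) = Ideal.Quotient.mk _ t := by
  show pev t n (trunc n (X : PowerSeries k)) = _
  rw [← Polynomial.coe_X, pev_trunc]
  exact Polynomial.aeval_X _

theorem factor_ev {m n : ℕ} (h : m ≤ n) (p : PowerSeries k) :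
    Ideal.Quotient.factor (Ideal.span_singleton_le_span_singleton.2 (pow_dvd_pow t h)) (ev t n p) = ev t m p := by
  show Ideal.Quotient.factor _ (pev t n (trunc n p)) = pev t m (trunc m p)
  have h1 : (Ideal.Quotient.factorₐ k (Ideal.span_singleton_le_span_singleton.2 (pow_dvd_pow t h))).comp (pev t n) = pev t m :=
    Polynomial.algHom_ext (by
      show (Ideal.Quotient.factorₐ k (Ideal.span_singleton_le_span_singleton.2 (pow_dvd_pow t h))) (Polynomial.aeval _ Polynomial.X) = Polynomial.aeval _ Polynomial.X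
      rw [Polynomial.aeval_X, Polynomial.aeval_X]
      rfl)
  refine (DFunLike.congr_fun h1 (trunc n p)).trans ?_
  rw [← pev_trunc t m (trunc n p)]
  congr 1
  ext d
  simp only [coeff_trunc, Polynomial.coeff_coe]
  split_ifs <;> first | rfl | omega

variable [IsLocalRing L] (ht : maximalIdeal L = Ideal.span {t}) (hk : Function.Surjective (algebraMap k (ResidueField L)))
  (hnz : ∀ n : ℕ, t ^ n ∉ Ideal.span {t ^ (n + 1)})

include hnz in
theorem ev_eq_zero_iff {n : ℕ} {p : PowerSeries k} : ev t n p = 0 ↔ (X : PowerSeries k) ^ n ∣ p := by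
  refine ⟨fun h => ?_, fun ⟨c, hc⟩ => by rw [hc, map_mul, map_pow, ev_X, mk_pow, zero_mul]⟩
  rw [X_pow_dvd_iff]
  intro d hd
  rcases eq_or_ne p 0 with rfl | hp
  · simp
  refine coeff_of_lt_order _ ?_
  rw [← X_pow_order_mul_divXPowOrder (f := p), map_mul, map_pow, ev_X] at h
  have hu : IsUnit (ev t n p.divXPowOrder) := by
    refine IsUnit.map _ (isUnit_iff_constantCoeff.2 (isUnit_iff_ne_zero.2 ?_))
    exact fun h0 => hp (constantCoeff_divXPowOrder_eq_zero_iff.1 h0)
  rw [hu.mul_left_eq_zero, ← map_pow, Ideal.Quotient.eq_zero_iff_mem] at h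
  have h' : n ≤ p.order.toNat := by
    by_contra hlt
    push Not at hlt
    exact hnz _ (Ideal.span_singleton_le_span_singleton.2 (pow_dvd_pow t hlt) h)
  rw [← ENat.coe_toNat (n := p.order) (fun h => hp (order_eq_top.1 h))]
  exact_mod_cast (by omega : d < p.order.toNat)

include ht hk in
theorem ev_surjective (n : ℕ) : Function.Surjective (ev (k := k) t n) := by
  have hstep : ∀ z : L, ∀ j, ∃ p : PowerSeries k, ∃ c : L,
      Ideal.Quotient.mk (Ideal.span {t ^ n}) z = ev t n p + Ideal.Quotient.mk _ t ^ j * Ideal.Quotient.mk _ c := by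
    intro z j
    induction j with
    | zero => exact ⟨0, z, by simp⟩
    | succ j ih =>
      obtain ⟨p, c, hpc⟩ := ih
      obtain ⟨a, ha⟩ := hk (residue L c)
      have hc : c - algebraMap k L a ∈ maximalIdeal L := Ideal.Quotient.eq.1 (show residue L c = residue L (algebraMap k L a) from ha.symm)
      rw [ht, Ideal.mem_span_singleton'] at hc
      obtain ⟨d, hd⟩ := hc
      refine ⟨p + X ^ j * C a, d, ?_⟩
      rw [hpc, map_add, map_mul, map_pow, ev_X, ev_C, show c = d * t + algebraMap k L a by rw [hd, sub_add_cancel],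
        map_add, map_mul, Ideal.Quotient.mk_algebraMap]
      ring
  intro z
  obtain ⟨z, rfl⟩ := Ideal.Quotient.mk_surjective z
  obtain ⟨p, c, hpc⟩ := hstep z n
  rw [mk_pow, zero_mul, add_zero] at hpc
  exact ⟨p, hpc.symm⟩

include ht hk hnz in
theorem exists_unique_series (z : L) : ∃! p : PowerSeries k, ∀ n, ev t n p = Ideal.Quotient.mk _ z := by
  choose p hp using fun n => ev_surjective t ht hk n (Ideal.Quotient.mk _ z)
  have hkey : ∀ q r : PowerSeries k, ∀ d, ev t (d + 1) q = ev t (d + 1) r → coeff d q = coeff d r := fun q r d h => by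
    rw [← sub_eq_zero, ← map_sub, ev_eq_zero_iff t hnz, X_pow_dvd_iff] at h
    exact sub_eq_zero.1 ((map_sub (coeff d) q r).symm.trans (h d (by omega)))
  refine ⟨mk fun d => coeff d (p (d + 1)), fun n => ?_, fun q hq => ?_⟩
  · rw [← hp n]
    show pev t n (trunc n _) = pev t n (trunc n _)
    congr 1
    ext d
    simp only [coeff_trunc, coeff_mk]
    split_ifs with hd
    · refine hkey _ _ d ?_
      rw [hp, ← factor_ev t (show d + 1 ≤ n by omega) (p n), hp]
      rfl
    · rfl
  · ext d
    rw [coeff_mk]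
    exact hkey _ _ d (by rw [hq, hp])

include ht hk hnz in
/-- The expansion: it identifies the truncations with those of the power series ring. -/
theorem exists_expansion : ∃ ψ : L →ₐ[k] PowerSeries k,
    (∀ (n : ℕ) (z : L), (X : PowerSeries k) ^ n ∣ ψ z ↔ z ∈ Ideal.span {t ^ n}) ∧
    ∀ (n : ℕ) (p : PowerSeries k), ∃ z : L, (X : PowerSeries k) ^ n ∣ p - ψ z := by
  choose s hs hu using exists_unique_series t ht hk hnz
  let ψ : L →ₐ[k] PowerSeries k :=
    { toFun := s
      map_one' := (hu 1 1 fun n => by rw [map_one, map_one]).symm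
      map_zero' := (hu 0 0 fun n => by rw [map_zero, map_zero]).symm
      map_add' := fun a b => (hu (a + b) _ fun n => by rw [map_add, map_add, hs, hs]).symm
      map_mul' := fun a b => (hu (a * b) _ fun n => by rw [map_mul, map_mul, hs, hs]).symm
      commutes' := fun c => (hu _ _ fun n => by rw [← C_eq_algebraMap, ev_C, Ideal.Quotient.mk_algebraMap]).symm }
  refine ⟨ψ, fun n z => ?_, fun n p => ?_⟩
  · rw [← ev_eq_zero_iff t hnz, show ev t n (ψ z) = _ from hs z n, Ideal.Quotient.eq_zero_iff_mem]
  · obtain ⟨z, hz⟩ := Ideal.Quotient.mk_surjective (ev t n p)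
    refine ⟨z, (ev_eq_zero_iff t hnz).1 ?_⟩
    rw [map_sub, show ev t n (ψ z) = _ from hs z n, hz, sub_self]

end Groth.Agent.DeltaBC.Expansion
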