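import Groth.Agent.DeltaBCLib.Branches
import Groth.Agent.DeltaBCLib.Expansion
import Groth.Agent.ExcLib.Transfer

/-!
# The completion of a wedge is the multicross
-/

set_option autoImplicit false
set_option linter.style.haveILetI false
set_option backward.isDefEq.respectTransparency false

universe u

open IsLocalRing

noncomputable section

namespace Groth.Agent.DeltaBC

variable {k : Type u} [Field k] {A : Type u} [CommRing A] [IsLocalRing A] [Algebra k A] [_root_.IsReduced A]

theorem mem_pow_of_mul_mem {R : Type u} [CommRing R] {n : Ideal R} [n.IsMaximal] {v z : R} {j : ℕ} (hv : v ∉ n)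
    (h : v * z ∈ n ^ j) : z ∈ n ^ j := by
  obtain ⟨w, u, hu, hw⟩ := Ideal.IsMaximal.exists_inv ‹n.IsMaximal› hv
  have h1 : (1 - u) ^ 1 * z ∈ n ^ j := by
    rw [pow_one, show (1 - u) = w * v by rw [← hw]; ring, mul_assoc]
    exact Ideal.mul_mem_left _ _ h
  obtain ⟨r, hr⟩ : 1 - u ∣ 1 - u ^ j := by simpa using sub_dvd_pow_sub_pow 1 u j
  have h2 : z = r * ((1 - u) * z) + u ^ j * z := by linear_combination z * hr
  rw [h2]
  exact add_mem (Ideal.mul_mem_left _ _ (by rwa [pow_one] at h1)) (Ideal.mul_mem_right _ _ (Ideal.pow_mem_pow hu j))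

/-- Expansion at a maximal ideal of the normalization. -/
theorem exists_expansion_at [Module.Finite A (Nor A)] (hN : CAlg.IsNagata A) (hdim : ringKrullDim A = 1)
    (hres : Function.Surjective (algebraMap k (ResidueField A))) (i : MaximalSpectrum (Nor A))
    (hsurj : Function.Surjective (algebraMap A (Nor A ⧸ i.asIdeal))) :
    ∃ Φ : Nor A →ₐ[k] PowerSeries k,
      (∀ (j : ℕ) (z : Nor A), (PowerSeries.X : PowerSeries k) ^ j ∣ Φ z ↔ z ∈ i.asIdeal ^ j) ∧
      ∀ (j : ℕ) (p : PowerSeries k), ∃ z : Nor A, (PowerSeries.X : PowerSeries k) ^ j ∣ p - Φ z := by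
  haveI := i.isMaximal
  haveI := hN.1
  let L := Localization.AtPrime i.asIdeal
  obtain ⟨hd, hdvr⟩ := isDVR_atPrime A hN hdim i.asIdeal
  haveI : IsDomain L := hd
  haveI : IsDiscreteValuationRing L := hdvr
  obtain ⟨t, ht⟩ := IsDiscreteValuationRing.exists_irreducible L
  have hmax : maximalIdeal L = Ideal.span {t} := Irreducible.maximalIdeal_eq ht
  have hk : Function.Surjective (algebraMap k (ResidueField L)) := by
    intro y
    obtain ⟨l, rfl⟩ := residue_surjective y
    obtain ⟨c, u, rfl⟩ := IsLocalization.exists_mk'_eq i.asIdeal.primeCompl l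
    obtain ⟨w, v, hv, hw⟩ := i.isMaximal.exists_inv u.2
    obtain ⟨a, ha⟩ := hsurj (Ideal.Quotient.mk _ (c * w))
    obtain ⟨e, he⟩ := hres (residue A a)
    have h0 : residue L (algebraMap _ _ (u : Nor A)) ≠ 0 :=
      (residue_ne_zero_iff_isUnit _).2 (IsLocalization.map_units _ u)
    refine ⟨e, mul_right_cancel₀ h0 ?_⟩
    show residue L (algebraMap k L e) * _ = _
    rw [← map_mul (residue L), ← map_mul (residue L), IsLocalization.mk'_spec,
      IsScalarTower.algebraMap_apply k (Nor A) L, ← map_mul (algebraMap (Nor A) L)]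
    refine (Ideal.Quotient.eq).2 ?_
    refine Set.mem_of_eq_of_mem (map_sub (algebraMap (Nor A) L) _ c).symm ?_
    rw [SetLike.mem_coe, IsLocalization.AtPrime.to_map_mem_maximal_iff L i.asIdeal]
    have h1 : algebraMap A (Nor A) a - c * w ∈ i.asIdeal := Ideal.Quotient.eq.1 ha
    have h3 : algebraMap A (Nor A) (algebraMap k A e - a) ∈ i.asIdeal := by
      haveI : Algebra.IsIntegral A (Nor A) := Algebra.IsIntegral.of_finite A _
      rw [← Ideal.mem_comap, eq_maximalIdeal (Ideal.isMaximal_comap_of_isIntegral_of_isMaximal (R := A) i.asIdeal)]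
      exact Ideal.Quotient.eq.1 he
    have h2 : algebraMap k (Nor A) e * (u : Nor A) - c =
        algebraMap A (Nor A) (algebraMap k A e - a) * u + (algebraMap A _ a - c * w) * u + c * ((w * u + v) - 1) - c * v := by
      rw [IsScalarTower.algebraMap_apply k A (Nor A), map_sub]; ring
    rw [h2, hw, sub_self, mul_zero, add_zero]
    exact sub_mem (add_mem (Ideal.mul_mem_right _ _ h3) (Ideal.mul_mem_right _ _ h1)) (Ideal.mul_mem_left _ _ hv)
  have hnz : ∀ n : ℕ, t ^ n ∉ Ideal.span {t ^ (n + 1)} := by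
    intro n h
    obtain ⟨r, hr⟩ := Ideal.mem_span_singleton'.1 h
    have h1 : r * t = 1 := by
      refine mul_right_cancel₀ (pow_ne_zero n ht.ne_zero) ?_
      rw [one_mul, mul_assoc, ← pow_succ', hr]
    exact ht.not_isUnit (isUnit_iff_exists_inv'.2 ⟨r, h1⟩)
  obtain ⟨ψ, hψ, hψs⟩ := Expansion.exists_expansion t hmax hk hnz
  have hpow : ∀ (j : ℕ) (z : Nor A), algebraMap (Nor A) L z ∈ Ideal.span {t ^ j} ↔ z ∈ i.asIdeal ^ j := by
    intro j z
    rw [← Ideal.span_singleton_pow, ← hmax, ← IsLocalization.AtPrime.map_eq_maximalIdeal i.asIdeal L, ← Ideal.map_pow,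
      IsLocalization.algebraMap_mem_map_algebraMap_iff i.asIdeal.primeCompl L]
    exact ⟨fun ⟨v, hv, hvz⟩ => mem_pow_of_mul_mem hv hvz, fun h => ⟨1, one_mem _, by rwa [one_mul]⟩⟩
  refine ⟨ψ.comp (IsScalarTower.toAlgHom k (Nor A) L), fun j z => (hψ j _).trans (hpow j z), fun j p => ?_⟩
  obtain ⟨l, hl⟩ := hψs j p
  obtain ⟨c, u, rfl⟩ := IsLocalization.exists_mk'_eq i.asIdeal.primeCompl l
  obtain ⟨w, v, hv, hw⟩ := i.isMaximal.exists_inv u.2
  obtain ⟨r, hr⟩ : 1 - v ∣ 1 - v ^ j := by simpa using sub_dvd_pow_sub_pow 1 v j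
  refine ⟨c * w * r, ?_⟩
  have hd : (PowerSeries.X : PowerSeries k) ^ j ∣ ψ (IsLocalization.mk' L c u - algebraMap (Nor A) L (c * w * r)) := by
    refine (hψ j _).2 ((Ideal.mul_unit_mem_iff_mem _ (IsLocalization.map_units L u)).1 ?_)
    refine Set.mem_of_eq_of_mem (show (IsLocalization.mk' L c u - algebraMap (Nor A) L (c * w * r)) * algebraMap (Nor A) L u =
      algebraMap (Nor A) L c - algebraMap (Nor A) L (c * w * r * u) from ?_) ?_
    · rw [map_mul (algebraMap (Nor A) L) (c * w * r), ← IsLocalization.mk'_spec L c u]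
      exact sub_mul (α := L) (IsLocalization.mk' L c u) _ _
    refine Set.mem_of_eq_of_mem (map_sub (algebraMap (Nor A) L) c _).symm ?_
    rw [SetLike.mem_coe, hpow, show c - c * w * r * u = c * v ^ j by linear_combination c * hr - c * r * hw]
    exact Ideal.mul_mem_left _ _ (Ideal.pow_mem_pow hv j)
  rw [map_sub] at hd
  exact (dvd_add hl hd).trans (dvd_of_eq (by simp))

/-- The completion of a wedge of discrete valuation rings with residue field `k` is the multicross. -/
theorem exists_multicross (hN : CAlg.IsNagata A) (hdim : ringKrullDim A = 1)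
    (hres : Function.Surjective (algebraMap k (ResidueField A))) (n : ℕ)
    (hn : Brnch.numBranches A = n) (hδ : Curv2.deltaInv A + 1 = n) :
    ∃ φ : AdicCompletion (maximalIdeal A) A →+* (Fin n → PowerSeries k),
      Function.Injective φ ∧
      (∀ c : k, φ (algebraMap A (AdicCompletion (maximalIdeal A) A) (algebraMap k A c)) =
        fun _ => algebraMap k (PowerSeries k) c) ∧
      Set.range φ = {f : Fin n → PowerSeries k | ∀ i j : Fin n,
        PowerSeries.constantCoeff (f i) = PowerSeries.constantCoeff (f j)} := by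
  classical
  haveI := hN.1
  obtain ⟨hfin, -, hδtop⟩ := S7652.result A hN hdim
  haveI : Module.Finite A (Nor A) := hfin
  haveI := finite_maximalSpectrum (A := A)
  haveI : Algebra.IsIntegral A (Nor A) := Algebra.IsIntegral.of_finite A _
  have hcard : Nat.card (MaximalSpectrum (Nor A)) = n := by
    exact_mod_cast (numBranches_eq A).symm.trans hn
  obtain ⟨hsurj, hw⟩ := wedge (A := A) hδtop (by rw [hδ, hcard])
  let en : Fin n ≃ MaximalSpectrum (Nor A) := (Finite.equivFinOfCardEq hcard).symm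
  choose Φ hΦ hΦs using fun i => exists_expansion_at (k := k) hN hdim hres (en i) (hsurj (en i))
  have hm : ∀ i, (en i).asIdeal.comap (algebraMap A (Nor A)) = maximalIdeal A := fun i => by
    haveI := (en i).isMaximal
    exact eq_maximalIdeal (Ideal.isMaximal_comap_of_isIntegral_of_isMaximal (R := A) (en i).asIdeal)
  have hne : Nonempty (Fin n) := by
    obtain ⟨M, hM⟩ := Ideal.exists_maximal (Nor A)
    exact ⟨en.symm ⟨M, hM⟩⟩
  -- the conductor is the maximal ideal
  have hJA : ∀ z : Nor A, (∀ i, z ∈ (en i).asIdeal) → ∃ a ∈ maximalIdeal A, algebraMap A (Nor A) a = z := fun z hz => by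
    obtain ⟨a, ha⟩ := hw z 0 fun i => by
      rw [map_zero, sub_zero, ← en.apply_symm_apply i]
      exact hz _
    obtain ⟨i⟩ := hne
    refine ⟨a, ?_, ha⟩
    rw [← hm i, Ideal.mem_comap, ha]
    exact hz i
  have hpow : ∀ (j : ℕ) (z : Nor A), 1 ≤ j → (∀ i, z ∈ (en i).asIdeal ^ j) →
      ∃ a ∈ maximalIdeal A ^ j, algebraMap A (Nor A) a = z := by
    intro j z hj hz
    let J := (maximalIdeal A).map (algebraMap A (Nor A))
    have hJ : ⨅ i, (en i).asIdeal = J := by
      refine le_antisymm (fun y hy => ?_) (Ideal.map_le_iff_le_comap.2 fun a ha => ?_)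
      · obtain ⟨a, ha, rfl⟩ := hJA y fun i => (Submodule.mem_iInf _).1 hy i
        exact Ideal.mem_map_of_mem _ ha
      · refine (Submodule.mem_iInf _).2 fun i => ?_
        show algebraMap A (Nor A) a ∈ (en i).asIdeal
        rw [← Ideal.mem_comap, hm i]; exact ha
    have hco : ∀ i i' : Fin n, i ≠ i' → (en i).asIdeal ⊔ (en i').asIdeal = ⊤ := fun i i' h =>
      (en i).isMaximal.coprime_of_ne (en i').isMaximal fun he => h (en.injective (MaximalSpectrum.ext he))
    have hprod : ∀ e : ℕ, ∏ i, (en i).asIdeal ^ e = ⨅ i, (en i).asIdeal ^ e := fun e => by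
      rw [Ideal.prod_eq_iInf_of_pairwise_isCoprime (fun i _ i' _ h => Ideal.isCoprime_iff_sup_eq.2 (Ideal.pow_sup_pow_eq_top (hco i i' h)))]
      simp
    have h1 : z ∈ J ^ j := by
      rw [← hJ, show (⨅ i, (en i).asIdeal) = ∏ i, (en i).asIdeal by simpa using (hprod 1).symm, ← Finset.prod_pow,
        hprod, Submodule.mem_iInf]
      exact hz
    rw [← Ideal.map_pow, ← Submodule.restrictScalars_mem A, Ideal.map] at h1
    clear hz
    replace h1 : z ∈ Submodule.span (Nor A) (algebraMap A (Nor A) '' ((maximalIdeal A ^ j : Ideal A) : Set A)) := h1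
    induction h1 using Submodule.span_induction with
    | mem y hy => obtain ⟨a, ha, rfl⟩ := hy; exact ⟨a, ha, rfl⟩
    | zero => exact ⟨0, zero_mem _, map_zero _⟩
    | add x y _ _ hx hy =>
      obtain ⟨a, ha, rfl⟩ := hx
      obtain ⟨b, hb, rfl⟩ := hy
      exact ⟨a + b, add_mem ha hb, map_add _ _ _⟩
    | smul b y _ hy =>
      obtain ⟨a, ha, rfl⟩ := hy
      obtain ⟨j, rfl⟩ : ∃ j', j = j' + 1 := ⟨j - 1, by omega⟩
      rw [pow_succ] at ha ⊢
      refine Submodule.mul_induction_on ha (fun x hx y hy => ?_) fun x y hx hy => ?_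
      · obtain ⟨c, hc, hc'⟩ := hJA (b * algebraMap A (Nor A) y) fun i => Ideal.mul_mem_left _ _ (by
          rw [← Ideal.mem_comap, hm i]; exact hy)
        refine ⟨x * c, Ideal.mul_mem_mul hx hc, ?_⟩
        rw [map_mul, map_mul, hc', smul_eq_mul]; ring
      · obtain ⟨a, ha, ha'⟩ := hx
        obtain ⟨a', ha₁, ha₁'⟩ := hy
        exact ⟨a + a', add_mem ha ha₁, by rw [map_add, map_add, smul_add, ha', ha₁']⟩
  have hpowA : ∀ (j : ℕ) (a : A), (∀ i, algebraMap A (Nor A) a ∈ (en i).asIdeal ^ j) → a ∈ maximalIdeal A ^ j := by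
    intro j a ha
    rcases Nat.eq_zero_or_pos j with rfl | hj
    · rw [pow_zero, Ideal.one_eq_top]; exact Submodule.mem_top (R := A) (M := A)
    obtain ⟨b, hb, hba⟩ := hpow j _ hj ha
    have hinj : Function.Injective (algebraMap A (Nor A)) := fun x y h =>
      IsFractionRing.injective A (FractionRing A) (congrArg Subtype.val h :)
    rwa [hinj hba] at hb
  -- the maps
  let XI : Ideal (PowerSeries k) := Ideal.span {PowerSeries.X}
  have hXI : ∀ (j : ℕ) (p : PowerSeries k), p ∈ XI ^ j ↔ (PowerSeries.X : PowerSeries k) ^ j ∣ p := fun j p => by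
    rw [Ideal.span_singleton_pow, Ideal.mem_span_singleton]
  let g : Fin n → ∀ j : ℕ, A ⧸ maximalIdeal A ^ j →+* PowerSeries k ⧸ XI ^ j := fun i j =>
    Ideal.quotientMap _ ((Φ i).toRingHom.comp (algebraMap A (Nor A))) fun a ha => by
      rw [Ideal.mem_comap, hXI, RingHom.comp_apply]
      refine (hΦ i j _).2 ?_
      have h1 := Ideal.mem_map_of_mem (algebraMap A (Nor A)) ha
      rw [Ideal.map_pow] at h1
      exact Ideal.pow_right_mono (Ideal.map_le_iff_le_comap.2 (hm i).ge) j h1
  have hg : ∀ i {a b : ℕ} (hle : a ≤ b),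
      (Ideal.Quotient.factorPow XI hle).comp ((g i b).comp (AdicCompletion.evalₐ (maximalIdeal A) b).toRingHom) =
        (g i a).comp (AdicCompletion.evalₐ (maximalIdeal A) a).toRingHom := by
    intro i a b hle
    refine RingHom.ext fun f => ?_
    show Ideal.Quotient.factorPow XI hle (g i b (AdicCompletion.evalₐ _ b f)) = g i a (AdicCompletion.evalₐ _ a f)
    obtain ⟨r, hr⟩ := Ideal.Quotient.mk_surjective (AdicCompletion.evalₐ (maximalIdeal A) b f)
    rw [← ExcLib.factorPow_evalₐ _ hle f, ← hr]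
    rfl
  let φ : AdicCompletion (maximalIdeal A) A →+* (Fin n → PowerSeries k) :=
    Pi.ringHom fun i => IsAdicComplete.liftRingHom XI _ (hg i)
  have hφ : ∀ i j f a, Ideal.Quotient.mk _ a = AdicCompletion.evalₐ (maximalIdeal A) j f →
      (PowerSeries.X : PowerSeries k) ^ j ∣ φ f i - Φ i (algebraMap A (Nor A) a) := by
    intro i j f a ha
    rw [← hXI, ← Ideal.Quotient.eq]
    refine (IsAdicComplete.mk_liftRingHom XI _ (hg i) j f).trans ?_
    show g i j (AdicCompletion.evalₐ _ j f) = _
    rw [← ha]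
    rfl
  refine ⟨φ, ?_, fun c => funext fun i => ?_, Set.ext fun p => ⟨?_, fun hp => ?_⟩⟩
  · rw [injective_iff_map_eq_zero]
    intro f hf
    refine AdicCompletion.ext_evalₐ fun j => ?_
    obtain ⟨a, ha⟩ := Ideal.Quotient.mk_surjective (AdicCompletion.evalₐ (maximalIdeal A) j f)
    rw [map_zero, ← ha, Ideal.Quotient.eq_zero_iff_mem]
    refine hpowA j a fun i => (hΦ i j _).1 ?_
    have h := hφ i j f a ha
    rwa [hf, Pi.zero_apply, zero_sub, dvd_neg] at h
  · refine PowerSeries.ext fun d => ?_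
    have h := hφ i (d + 1) _ (algebraMap k A c) (AlgHom.commutes _ (algebraMap k A c)).symm
    rw [← IsScalarTower.algebraMap_apply k A (Nor A), AlgHom.commutes] at h
    have h2 := PowerSeries.X_pow_dvd_iff.1 h d (Nat.lt_succ_self d)
    rw [map_sub, sub_eq_zero] at h2
    exact h2
  · rintro ⟨f, rfl⟩ i i'
    obtain ⟨a, ha⟩ := Ideal.Quotient.mk_surjective (AdicCompletion.evalₐ (maximalIdeal A) 1 f)
    obtain ⟨c, hc⟩ := hres (residue A a)
    have key : ∀ i, PowerSeries.constantCoeff (φ f i) = c := fun i => by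
      have h := hφ i 1 f a ha
      have h2 : (PowerSeries.X : PowerSeries k) ^ 1 ∣ Φ i (algebraMap A (Nor A) a) - algebraMap k (PowerSeries k) c := by
        rw [← (Φ i).commutes c, ← map_sub, hΦ, pow_one, IsScalarTower.algebraMap_apply k A (Nor A), ← map_sub,
          ← Ideal.mem_comap, hm i]
        exact Ideal.Quotient.eq.1 hc.symm
      have h3 := dvd_add h h2
      rw [sub_add_sub_cancel, pow_one, PowerSeries.X_dvd_iff, map_sub, sub_eq_zero] at h3
      rw [h3]
      exact PowerSeries.constantCoeff_C c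
    rw [key, key]
  · obtain ⟨i₀⟩ := hne
    let c := PowerSeries.constantCoeff (p i₀)
    have hex : ∀ j : ℕ, ∃ a : A, ∀ i, (PowerSeries.X : PowerSeries k) ^ j ∣ p i - Φ i (algebraMap A (Nor A) a) := by
      intro j
      rcases Nat.eq_zero_or_pos j with rfl | hj
      · exact ⟨0, fun i => by simp⟩
      choose z hz using fun i => hΦs i j (p i)
      have hco : Pairwise fun i i' => IsCoprime ((en i).asIdeal ^ j) ((en i').asIdeal ^ j) := fun i i' h =>
        Ideal.isCoprime_iff_sup_eq.2 (Ideal.pow_sup_pow_eq_top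
          ((en i).isMaximal.coprime_of_ne (en i').isMaximal fun he => h (en.injective (MaximalSpectrum.ext he))))
      obtain ⟨y, hy⟩ := Ideal.quotientInfToPiQuotient_surj hco fun i => Ideal.Quotient.mk _ (z i)
      obtain ⟨y, rfl⟩ := Ideal.Quotient.mk_surjective y
      have hy' : ∀ i, (PowerSeries.X : PowerSeries k) ^ j ∣ p i - Φ i y := fun i => by
        have h1 : (PowerSeries.X : PowerSeries k) ^ j ∣ Φ i (z i) - Φ i y := by
          rw [← map_sub, hΦ]
          exact Ideal.Quotient.eq.1 (congrFun hy i).symm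
        simpa using dvd_add (hz i) h1
      obtain ⟨a, ha⟩ := hw y (algebraMap k A c) fun i' => by
        obtain ⟨i, rfl⟩ := en.surjective i'
        rw [← pow_one (en i).asIdeal, ← hΦ i 1, map_sub, ← IsScalarTower.algebraMap_apply, AlgHom.commutes, pow_one,
          PowerSeries.X_dvd_iff, map_sub, sub_eq_zero]
        have h1 := (dvd_pow_self (PowerSeries.X : PowerSeries k) (by omega : j ≠ 0)).trans (hy' i)
        rw [PowerSeries.X_dvd_iff, map_sub, sub_eq_zero] at h1
        rw [← h1, hp i i₀]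
        exact (PowerSeries.constantCoeff_C c).symm
      exact ⟨a, fun i => by rw [ha]; exact hy' i⟩
    choose a ha using hex
    have hcauchy : ∀ {s t : ℕ}, s ≤ t → a s - a t ∈ maximalIdeal A ^ s := fun {s t} hst => by
      refine hpowA s _ fun i => (hΦ i s _).1 ?_
      rw [map_sub, map_sub]
      have h1 := dvd_sub ((pow_dvd_pow _ hst).trans (ha t i)) (ha s i)
      simpa using h1
    let S : AdicCompletion.AdicCauchySequence (maximalIdeal A) A := ⟨a, fun {s t} hst => by
      rw [SModEq.sub_mem, smul_eq_mul, Ideal.mul_top]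
      exact hcauchy hst⟩
    refine ⟨AdicCompletion.mk _ _ S, funext fun i => PowerSeries.ext fun d => ?_⟩
    have h := dvd_sub (hφ i (d + 1) (AdicCompletion.mk _ _ S) (a (d + 1)) (AdicCompletion.evalₐ_mk (maximalIdeal A) (d + 1) S).symm) (ha (d + 1) i)
    rw [sub_sub_sub_cancel_right] at h
    have h2 := PowerSeries.X_pow_dvd_iff.1 h d (Nat.lt_succ_self d)
    rw [map_sub, sub_eq_zero] at h2
    exact h2

end Groth.Agent.DeltaBC
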