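import Groth.Agent.DeltaBCLib.Main
import Groth.Agent.GeomRedPtLib.FibreIdeal
import Groth.Agent.NagataLib.Main
import Groth.Agent.S0566
import Groth.Agent.S0568

/-!
# Stalks of a base change of fields as algebras over the stalks below
-/

set_option autoImplicit false
set_option backward.isDefEq.respectTransparency false
set_option linter.style.haveILetI false

universe u

open CategoryTheory CategoryTheory.Limits AlgebraicGeometry TensorProduct

attribute [local instance] Curv2.stalkAlgebra

noncomputable section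

namespace Groth.Agent.DeltaBC

variable (k : Type u) [Field k] (X : Scheme.{u}) [X.Over (Spec (CommRingCat.of k))] (K : Type u) [Field K] [Algebra k K]

theorem isNagata_field : CAlg.IsNagata k := by
  haveI : IsAdicComplete (IsLocalRing.maximalIdeal k) k := by
    rw [IsLocalRing.maximalIdeal_eq_bot]; infer_instance
  exact S0568.result k

theorem isNagata_stalk [LocallyOfFiniteType (X ↘ Spec (CommRingCat.of k))] (x : X) :
    CAlg.IsNagata (X.presheaf.stalk x) := by
  obtain ⟨_, ⟨U : X.Opens, hU, rfl⟩, hxU, -⟩ := X.isBasis_affineOpens.exists_subset_of_mem_open (Set.mem_univ x) isOpen_univ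
  let g : k →+* Γ(X, U) :=
    ((Scheme.ΓSpecIso (CommRingCat.of k)).inv ≫ (X ↘ Spec (CommRingCat.of k)).appLE ⊤ U le_top).hom
  have hg : g.FiniteType := by
    have h := LocallyOfFiniteType.finiteType_appLE (X ↘ Spec (CommRingCat.of k)) (isAffineOpen_top _) hU le_top
    exact h.comp (RingHom.FiniteType.of_surjective _
      (ConcreteCategory.bijective_of_isIso (Scheme.ΓSpecIso (CommRingCat.of k)).inv).2)
  letI := g.toAlgebra
  haveI : Algebra.FiniteType k Γ(X, U) := hg
  letI := TopCat.Presheaf.algebra_section_stalk X.presheaf (⟨x, hxU⟩ : U)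
  haveI := hU.isLocalization_stalk ⟨x, hxU⟩
  refine NagataLib.isNagata_of_fractions (algebraMap Γ(X, U) (X.presheaf.stalk x))
    (S0566.result k (isNagata_field k) Γ(X, U)) fun c => ?_
  obtain ⟨⟨r, s⟩, h⟩ := IsLocalization.surj (hU.primeIdealOf ⟨x, hxU⟩).asIdeal.primeCompl c
  exact ⟨r, s, IsLocalization.map_units _ s, h⟩

/-- The algebra structure on a stalk of the base change. -/
@[implicit_reducible]
def bcAlgebra (y : Curv2.bc k X K) :
    Algebra (X.presheaf.stalk (Curv2.bcFst k X K y)) ((Curv2.bc k X K).presheaf.stalk y) :=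
  ((Curv2.bcFst k X K).stalkMap y).hom.toAlgebra

attribute [local instance] bcAlgebra

instance isLocalHom_bc (y : Curv2.bc k X K) :
    IsLocalHom (algebraMap (X.presheaf.stalk (Curv2.bcFst k X K y)) ((Curv2.bc k X K).presheaf.stalk y)) :=
  (Curv2.bcFst k X K).toLRSHom.prop y

theorem flat_bc (y : Curv2.bc k X K) :
    Module.Flat (X.presheaf.stalk (Curv2.bcFst k X K y)) ((Curv2.bc k X K).presheaf.stalk y) := by
  haveI : Flat (Spec.map (CommRingCat.ofHom (algebraMap k K))) :=
    (HasRingHomProperty.Spec_iff (P := @Flat)).2 (RingHom.flat_algebraMap_iff.2 inferInstance)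
  haveI : Flat (Curv2.bcFst k X K) := MorphismProperty.pullback_fst _ _ inferInstance
  exact Flat.stalkMap (Curv2.bcFst k X K) y

theorem isNoetherianRing_bc [LocallyOfFiniteType (X ↘ Spec (CommRingCat.of k))] (y : Curv2.bc k X K) :
    IsNoetherianRing ((Curv2.bc k X K).presheaf.stalk y) := by
  haveI : LocallyOfFiniteType (Curv2.bcSnd k X K) := MorphismProperty.pullback_snd _ _ inferInstance
  haveI : IsLocallyNoetherian (Curv2.bc k X K) := LocallyOfFiniteType.isLocallyNoetherian (Curv2.bcSnd k X K)
  infer_instance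

/-- The local ring of the base change is a localisation of the tensor product, compatibly. -/
theorem exists_stalk_equiv (y : Curv2.bc k X K) :
    ∃ (P : Ideal (X.presheaf.stalk (Curv2.bcFst k X K y) ⊗[k] K)) (_ : P.IsPrime)
      (e : (Curv2.bc k X K).presheaf.stalk y ≃+* Localization.AtPrime P),
      ∀ a, e (((Curv2.bcFst k X K).stalkMap y).hom a) = algebraMap _ (Localization.AtPrime P) (a ⊗ₜ[k] (1 : K)) := by
  set x := Curv2.bcFst k X K y with hx
  obtain ⟨p, hp⟩ := GeomRedPtLib.exists_tensorPt_eq K x y specializes_rfl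
  refine ⟨p.asIdeal, p.2, ?_⟩
  let t := GeomRedPtLib.tensorPt k X K x
  let T : CommRingCat.{u} := CommRingCat.of (X.presheaf.stalk x ⊗[k] K)
  letI : Algebra (X.presheaf.stalk x ⊗[k] K) ((Spec T).presheaf.stalk p) := StructureSheaf.stalkAlgebra _ p
  haveI : IsLocalization.AtPrime ((Spec T).presheaf.stalk p) p.asIdeal := StructureSheaf.IsLocalization.to_stalk T p
  let hs : y ⤳ t p := specializes_of_eq hp.symm
  let hs' : t p ⤳ y := specializes_of_eq hp
  let c : (Curv2.bc k X K).presheaf.stalk y ≅ (Curv2.bc k X K).presheaf.stalk (t p) :=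
    { hom := (Curv2.bc k X K).presheaf.stalkSpecializes hs'
      inv := (Curv2.bc k X K).presheaf.stalkSpecializes hs
      hom_inv_id := by simp
      inv_hom_id := by simp }
  have hψ : (Curv2.bcFst k X K).stalkMap y ≫ c.hom ≫ t.stalkMap p =
      CommRingCat.ofHom Algebra.TensorProduct.includeLeftRingHom ≫ StructureSheaf.toStalk T p := by
    apply Spec.map_injective
    rw [← cancel_mono (X.fromSpecStalk x)]
    simp only [Spec.map_comp, Category.assoc]
    rw [Scheme.SpecMap_stalkMap_fromSpecStalk, show c.hom = (Curv2.bc k X K).presheaf.stalkSpecializes hs' from rfl,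
      Scheme.SpecMap_stalkSpecializes_fromSpecStalk_assoc, Scheme.SpecMap_stalkMap_fromSpecStalk_assoc,
      (GeomRedPtLib.isPullback_tensorPt K x).w, ← Spec.fromSpecStalk_eq']
  refine ⟨((c.commRingCatIsoToRingEquiv).trans
    (RingEquiv.ofBijective _ (GeomRedPtLib.bijective_stalkMap_of_preimmersion t p))).trans
      (IsLocalization.algEquiv p.asIdeal.primeCompl _ (Localization.AtPrime p.asIdeal)).toRingEquiv, fun a => ?_⟩
  have h := congrArg (fun f => f.hom a) hψ
  simp only [CommRingCat.hom_comp, RingHom.comp_apply] at h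
  show IsLocalization.algEquiv p.asIdeal.primeCompl _ (Localization.AtPrime p.asIdeal)
    ((t.stalkMap p).hom (c.hom.hom (((Curv2.bcFst k X K).stalkMap y).hom a))) = _
  rw [h]
  exact AlgEquiv.commutes _ _

/-- Fibres of the stalk map over fields with reduced base change are reduced. -/
theorem isReduced_bc_tensor (y : Curv2.bc k X K) (κ : Type u) [Field κ]
    [Algebra (X.presheaf.stalk (Curv2.bcFst k X K y)) κ] [Algebra k κ]
    [IsScalarTower k (X.presheaf.stalk (Curv2.bcFst k X K y)) κ] [_root_.IsReduced (κ ⊗[k] K)] :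
    _root_.IsReduced ((Curv2.bc k X K).presheaf.stalk y ⊗[X.presheaf.stalk (Curv2.bcFst k X K y)] κ) := by
  obtain ⟨P, hP, e, he⟩ := exists_stalk_equiv k X K y
  let A := X.presheaf.stalk (Curv2.bcFst k X K y)
  let T := A ⊗[k] K
  let Tp := Localization.AtPrime P
  let eA : (Curv2.bc k X K).presheaf.stalk y ≃ₐ[A] Tp := AlgEquiv.ofRingEquiv (f := e) fun a => by
    rw [IsScalarTower.algebraMap_apply A T Tp]
    exact he a
  haveI : _root_.IsReduced (T ⊗[A] κ) := by
    let j := (Algebra.TensorProduct.comm A T κ).toRingEquiv.trans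
      (Algebra.TensorProduct.cancelBaseChange k A A κ K).toRingEquiv
    exact isReduced_of_injective j j.injective
  let f : T ⊗[A] κ →ₐ[T] Tp ⊗[A] κ :=
    Algebra.TensorProduct.map (Algebra.ofId T Tp) (AlgHom.id A κ)
  letI : Algebra (T ⊗[A] κ) (Tp ⊗[A] κ) := f.toRingHom.toAlgebra
  haveI : IsScalarTower T (T ⊗[A] κ) (Tp ⊗[A] κ) := .of_algebraMap_eq fun t => (f.commutes t).symm
  haveI : IsLocalization (Algebra.algebraMapSubmonoid (T ⊗[A] κ) P.primeCompl) (Tp ⊗[A] κ) :=
    IsLocalization.tensorProduct_tensorProduct A κ P.primeCompl Tp (RingHom.ext fun c => by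
      show f (1 ⊗ₜ c) = 1 ⊗ₜ c
      exact (Algebra.TensorProduct.map_tmul _ _ _ _).trans (by rw [map_one]; rfl))
  haveI : _root_.IsReduced (Tp ⊗[A] κ) :=
    isReduced_localizationPreserves (Algebra.algebraMapSubmonoid (T ⊗[A] κ) P.primeCompl) (Tp ⊗[A] κ) inferInstance
  let E := Algebra.TensorProduct.congr eA (AlgEquiv.refl : κ ≃ₐ[A] κ)
  exact isReduced_of_injective E E.injective

/-- The maximal ideal upstairs is generated from below when the residue field has reduced base change. -/
theorem map_maximalIdeal_bc [LocallyOfFiniteType (X ↘ Spec (CommRingCat.of k))] (y : Curv2.bc k X K)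
    (hdim : ringKrullDim (X.presheaf.stalk (Curv2.bcFst k X K y)) = ringKrullDim ((Curv2.bc k X K).presheaf.stalk y))
    [_root_.IsReduced (IsLocalRing.ResidueField (X.presheaf.stalk (Curv2.bcFst k X K y)) ⊗[k] K)] :
    (IsLocalRing.maximalIdeal (X.presheaf.stalk (Curv2.bcFst k X K y))).map
      (algebraMap _ ((Curv2.bc k X K).presheaf.stalk y)) = IsLocalRing.maximalIdeal _ :=
  GeomRedPtLib.fibreIdeal_eq_maximalIdeal K y hdim

end Groth.Agent.DeltaBC
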