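import Groth.Agent.DeltaBCLib.Count
import Groth.Agent.DeltaBCLib.Stalk
import Groth.Agent.DeltaBCLib.Multicross
import Groth.Agent.NodePtLib.Unram

/-!
# Ordinary multiple points of curves
-/

set_option autoImplicit false
set_option linter.style.haveILetI false
set_option backward.isDefEq.respectTransparency false

universe u

open CategoryTheory CategoryTheory.Limits AlgebraicGeometry IsLocalRing

attribute [local instance] Curv2.stalkAlgebra

noncomputable section

namespace Groth.Agent.DeltaBC

variable {k : Type u} [Field k] [IsAlgClosed k] {X : Scheme.{u}} [X.Over (Spec (CommRingCat.of k))]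
  [LocallyOfFiniteType (X ↘ (Spec (CommRingCat.of k)))]

theorem residue_surjective_closed {x : X} (hx : IsClosed ({x} : Set X)) :
    Function.Surjective (algebraMap k (ResidueField (X.presheaf.stalk x))) := fun a => by
  obtain ⟨c, hc⟩ := NodalLib.resMap_surjective (K := k) hx a
  exact ⟨c, hc⟩

omit [IsAlgClosed k] [X.Over (Spec (CommRingCat.of k))] [LocallyOfFiniteType (X ↘ (Spec (CommRingCat.of k)))] in
theorem dim_stalk_eq_one (hequi : ∀ Z ∈ irreducibleComponents (X : Type u), topologicalKrullDim Z = 1) {x : X}
    (hx : IsClosed ({x} : Set X)) : ringKrullDim (X.presheaf.stalk x) = 1 := by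
  haveI := NodePtLib.krullDimLE_one_stalk hequi hx
  refine le_antisymm (Ring.krullDimLE_iff.1 inferInstance) ?_
  rw [ringKrullDim_stalk_eq_coheight]
  obtain ⟨Z, hZ, hsub⟩ := exists_mem_irreducibleComponents_subset_of_isIrreducible ({x} : Set X) isIrreducible_singleton
  have hne : Z ≠ ({x} : Set X) := fun h => by
    have h1 := hequi Z hZ
    subst h
    have h2 : topologicalKrullDim ({x} : Set X) ≤ 0 := topologicalKrullDim_zero_of_discreteTopology _
    rw [h1] at h2
    exact absurd h2 (by decide)
  obtain ⟨η, hη⟩ := QuasiSober.sober hZ.1 (isClosed_of_mem_irreducibleComponents Z hZ)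
  have hηx : η ⤳ x := specializes_iff_mem_closure.2 (hη.def.symm ▸ hsub rfl)
  have hlt : x < η := by
    refine lt_iff_le_not_ge.2 ⟨Scheme.le_iff_specializes.2 hηx, fun h => hne ?_⟩
    rw [← hη.def, ← ((Scheme.le_iff_specializes.1 h).antisymm hηx).eq, hx.closure_eq]
  have h1 : (1 : ℕ∞) ≤ Order.coheight x := Order.one_le_iff_pos.2 (pos_iff_ne_zero.2 fun h0 => by
    rw [Order.coheight_eq_zero] at h0
    exact hlt.not_ge (h0 hlt.le))
  exact_mod_cast h1

omit [IsAlgClosed k] [X.Over (Spec (CommRingCat.of k))] [LocallyOfFiniteType (X ↘ (Spec (CommRingCat.of k)))] in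
/-- An isomorphism with the coordinate axes gives a multicross embedding. -/
theorem exists_phi_of_axes (R : Type u) [CommRing R] (n : ℕ) (hn : 0 < n)
    (e : R ≃+* (MvPowerSeries (Fin n) k ⧸ Ideal.span {f : MvPowerSeries (Fin n) k |
      ∃ i j : Fin n, i ≠ j ∧ f = MvPowerSeries.X i * MvPowerSeries.X j})) :
    ∃ φ : R →+* (Fin n → PowerSeries k), Function.Injective φ ∧
      Set.range φ = {f : Fin n → PowerSeries k | ∀ i j : Fin n,
        PowerSeries.constantCoeff (f i) = PowerSeries.constantCoeff (f j)} := by
  obtain ⟨θ, -, hker, hrange⟩ := exists_axes k n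
  let θ' := Ideal.Quotient.lift _ θ fun f hf => RingHom.mem_ker.1 ((hker hn).ge hf)
  refine ⟨θ'.comp e.toRingHom, ?_, ?_⟩
  · exact (show Function.Injective θ' from RingHom.lift_injective_of_ker_le_ideal _ (fun f hf => RingHom.mem_ker.1 ((hker hn).ge hf)) (hker hn).le).comp e.injective
  · rw [← hrange]
    refine le_antisymm ?_ ?_
    · rintro _ ⟨r, rfl⟩
      obtain ⟨f, hf⟩ := Ideal.Quotient.mk_surjective (e r)
      exact ⟨f, (congrArg θ' hf :)⟩
    · rintro _ ⟨f, rfl⟩
      exact ⟨e.symm (Ideal.Quotient.mk _ f), by show θ' (e (e.symm _)) = _; rw [e.apply_symm_apply]; rfl⟩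

omit [IsAlgClosed k] [X.Over (Spec (CommRingCat.of k))] [LocallyOfFiniteType (X ↘ (Spec (CommRingCat.of k)))] in
/-- A power series ring in no variables is a field, so the completion of a ring of dimension one is not one. -/
theorem pos_of_axes (A : Type u) [CommRing A] [IsLocalRing A] [IsNoetherianRing A] (hdim : ringKrullDim A = 1) (n : ℕ)
    (e : Curv2.cpl A ≃+* (MvPowerSeries (Fin n) k ⧸ Ideal.span {f : MvPowerSeries (Fin n) k |
      ∃ i j : Fin n, i ≠ j ∧ f = MvPowerSeries.X i * MvPowerSeries.X j})) : 0 < n := by
  by_contra h0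
  obtain rfl : n = 0 := by omega
  have hI : maximalIdeal A ≠ ⊤ := (maximalIdeal.isMaximal A).ne_top
  haveI : IsLocalRing (Curv2.cpl A) := RegLocal.isLocalRing_completion A _ hI
  have hd := RegLocal.ringKrullDim_completion A _ hI
  rw [hdim] at hd
  have hf : IsField (Curv2.cpl A) := by
    refine IsLocalRing.isField_iff_maximalIdeal_eq.2 (eq_bot_iff.2 fun a ha => ?_)
    obtain ⟨f, hf⟩ := Ideal.Quotient.mk_surjective (e a)
    have hc : MvPowerSeries.constantCoeff f = 0 := by
      by_contra hne
      refine (mem_maximalIdeal a).1 ha ?_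
      have : IsUnit (Ideal.Quotient.mk (Ideal.span {f : MvPowerSeries (Fin 0) k |
          ∃ i j : Fin 0, i ≠ j ∧ f = MvPowerSeries.X i * MvPowerSeries.X j}) f) :=
        (MvPowerSeries.isUnit_iff_constantCoeff.2 (isUnit_iff_ne_zero.2 hne)).map _
      rw [hf] at this
      exact (MulEquiv.isUnit_map e.toMulEquiv).1 this
    have : f = 0 := MvPowerSeries.ext fun d => by
      rw [Subsingleton.elim d 0, MvPowerSeries.coeff_zero_eq_constantCoeff, hc]; rfl
    rw [this, map_zero] at hf
    rw [Submodule.mem_bot]
    exact e.injective (hf.symm.trans (map_zero e).symm)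
  rw [ringKrullDim_eq_zero_of_isField hf] at hd
  exact zero_ne_one hd

omit [IsAlgClosed k] [X.Over (Spec (CommRingCat.of k))] [LocallyOfFiniteType (X ↘ (Spec (CommRingCat.of k)))] in
/-- The embedding dimension of a multicross ring. -/
theorem spanFinrank_multicross (R : Type u) [CommRing R] [IsLocalRing R] [IsNoetherianRing R] (n : ℕ)
    (φ : R →+* (Fin n → PowerSeries k)) (hφ : Function.Injective φ)
    (hrange : Set.range φ = {f : Fin n → PowerSeries k | ∀ i j : Fin n,
        PowerSeries.constantCoeff (f i) = PowerSeries.constantCoeff (f j)}) :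
    (maximalIdeal R).spanFinrank = n := by
  classical
  have hn : Nonempty (Fin n) := by
    rcases n with _ | m
    · exact absurd (hφ (Subsingleton.elim (φ 0) (φ 1))) zero_ne_one
    · exact ⟨0⟩
  obtain ⟨i₀⟩ := hn
  have hmem : ∀ f : Fin n → PowerSeries k, (∀ i j, PowerSeries.constantCoeff (f i) = PowerSeries.constantCoeff (f j)) →
      ∃ r, φ r = f := fun f hf => by
    have : f ∈ Set.range φ := by rw [hrange]; exact hf
    exact this
  have hconst : ∀ r i, PowerSeries.constantCoeff (φ r i) = PowerSeries.constantCoeff (φ r i₀) := fun r i => by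
    have : φ r ∈ Set.range φ := ⟨r, rfl⟩
    rw [hrange] at this
    exact this _ _
  have hmax : ∀ r, r ∈ maximalIdeal R ↔ ∀ i, PowerSeries.constantCoeff (φ r i) = 0 := fun r => by
    constructor
    · intro hr i
      by_contra hne
      rw [hconst] at hne
      refine (mem_maximalIdeal r).1 hr ?_
      choose v hv using fun i => (PowerSeries.isUnit_iff_constantCoeff.2 (isUnit_iff_ne_zero.2
        (show PowerSeries.constantCoeff (φ r i) ≠ 0 by rw [hconst]; exact hne)) : IsUnit (φ r i)).exists_right_inv
      obtain ⟨s, hs⟩ := hmem v fun i j => by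
        have h1 := congrArg PowerSeries.constantCoeff (hv i)
        have h2 := congrArg PowerSeries.constantCoeff (hv j)
        rw [map_mul, map_one, hconst] at h1 h2
        exact mul_left_cancel₀ hne (h1.trans h2.symm)
      exact isUnit_iff_exists_inv.2 ⟨s, hφ (by rw [map_mul, map_one, hs]; exact funext hv)⟩
    · intro h
      refine (mem_maximalIdeal r).2 fun hu => ?_
      have h1 := ((hu.map φ).map (Pi.evalRingHom (fun _ => PowerSeries k) i₀))
      rw [PowerSeries.isUnit_iff_constantCoeff, show (Pi.evalRingHom (fun _ => PowerSeries k) i₀) (φ r) = φ r i₀ from rfl, h] at h1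
      exact not_isUnit_zero h1
  choose t ht using fun i => hmem (Pi.single i PowerSeries.X) fun a b => by
    rw [Pi.single_apply, Pi.single_apply]
    split_ifs <;> simp
  apply le_antisymm
  · have hgen : maximalIdeal R = Ideal.span (Set.range t) := by
      refine le_antisymm (fun r hr => ?_) (Ideal.span_le.2 ?_)
      · have h1 : ∀ i, (PowerSeries.X : PowerSeries k) ∣ φ r i := fun i =>
          PowerSeries.X_dvd_iff.2 ((hmax r).1 hr i)
        choose g hg using h1
        choose c hc using fun i => hmem (fun _ => g i) fun _ _ => rfl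
        rw [show r = ∑ i, c i * t i from hφ (funext fun j => by
          rw [map_sum, Finset.sum_apply, Finset.sum_eq_single j (fun i _ hij => by
              rw [map_mul, ht, Pi.mul_apply, Pi.single_eq_of_ne (Ne.symm hij), mul_zero])
            (fun h => absurd (Finset.mem_univ j) h), map_mul, ht, Pi.mul_apply, Pi.single_eq_same, hc, hg j, mul_comm])]
        exact Ideal.sum_mem _ fun i _ => Ideal.mul_mem_left _ _ (Ideal.subset_span ⟨i, rfl⟩)
      · rintro _ ⟨i, rfl⟩
        refine (hmax _).2 fun j => ?_
        rw [ht, Pi.single_apply]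
        split_ifs <;> simp
    rw [hgen]
    exact (Submodule.spanFinrank_span_le_ncard_of_finite (Set.finite_range t)).trans
      ((Set.image_univ ▸ Set.ncard_image_le (f := t) (s := Set.univ)).trans_eq (by simp [Set.ncard_univ]))
  · obtain ⟨s, hs, hsp⟩ := Submodule.FG.exists_span_finset_card_eq_spanFinrank (maximalIdeal R).fg_of_isNoetherianRing
    let D : R → Fin n → k := fun r i => PowerSeries.coeff 1 (φ r i)
    have hD : ∀ r ∈ maximalIdeal R, D r ∈ Submodule.span k (D '' (s : Set R)) := by
      intro r hr
      rw [← hsp] at hr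
      induction hr using Submodule.span_induction with
      | mem y hy => exact Submodule.subset_span ⟨y, hy, rfl⟩
      | zero => rw [show D 0 = 0 from funext fun i => by simp [D]]; exact zero_mem _
      | add a b _ _ ha hb => rw [show D (a + b) = D a + D b from funext fun i => by simp [D]]; exact add_mem ha hb
      | smul a b hb hb' =>
        rw [show D (a • b) = PowerSeries.constantCoeff (φ a i₀) • D b from funext fun i => by
          have h0 : PowerSeries.constantCoeff (φ b i) = 0 := (hmax b).1 (hsp ▸ hb) i
          rw [Pi.smul_apply, smul_eq_mul, ← hconst a i]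
          show PowerSeries.coeff 1 (φ (a * b) i) = _
          rw [map_mul, Pi.mul_apply, PowerSeries.coeff_mul, Finset.Nat.antidiagonal_succ, Finset.sum_cons]
          simp [h0, D]]
        exact Submodule.smul_mem _ _ hb'
    have htop : Submodule.span k (D '' (s : Set R)) = ⊤ := by
      refine eq_top_iff.2 fun v _ => ?_
      obtain ⟨r, hr⟩ := hmem (fun i => PowerSeries.C (v i) * PowerSeries.X) fun _ _ => by simp
      have : D r = v := funext fun i => by
        show PowerSeries.coeff 1 (φ r i) = v i
        rw [hr, PowerSeries.coeff_succ_mul_X, PowerSeries.coeff_zero_C]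
      exact this ▸ hD r ((hmax r).2 fun i => by rw [hr]; simp)
    have h1 := finrank_span_finset_le_card (R := k) (s.image D)
    rw [Finset.coe_image, Set.finrank, htop, finrank_top, Module.finrank_fin_fun] at h1
    exact h1.trans ((Finset.card_image_le).trans_eq hs)

end Groth.Agent.DeltaBC
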