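import Groth.Agent.DeltaBCLib.NorStalk
import Groth.Agent.CycLib.EulerPts
import Groth.Agent.DevLib.Piece
import Groth.Agent.DevLib.Closed
import Groth.Agent.EtAlgEasy.PrinPartPush
import Groth.Agent.FinBirLib.Genus
import Groth.Agent.EulerIneqLib.Basic

/-!
# Euler characteristics of normalizations
-/

set_option autoImplicit false
set_option linter.style.haveILetI false
set_option backward.isDefEq.respectTransparency false

universe u

open CategoryTheory CategoryTheory.Limits AlgebraicGeometry TopologicalSpace
open Groth.Agent.PullbackMod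

noncomputable section

namespace Groth.Agent.DeltaBC

variable (k : Type u) [Field k] {X X' : Scheme.{u}} [X.Over (Spec (CommRingCat.of k))] [X'.Over (Spec (CommRingCat.of k))]
  [IsProper (X ↘ Spec (CommRingCat.of k))] [IsReduced X] (π : X' ⟶ X) [IsFinite π]
  (hX' : Pi1.IsNormalScheme X') (U : X.Opens) (hU : Dense (U : Set X))
  (hU' : Dense ((π ⁻¹ᵁ U : X'.Opens) : Set X')) (hπU : IsIso (π ∣_ U))

include hX' hU hU' hπU in
/-- The δ-invariant vanishes over the isomorphism locus of a normalization. -/
theorem deltaInv_eq_zero_of_mem [IsLocallyNoetherian X] {x : X} (hx : x ∈ U) :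
    Curv2.deltaInv (X.presheaf.stalk x) = 0 := by
  haveI := hπU
  haveI := mono_structMap π U hU hπU
  rw [← length_coker_stalk π hX' U hU hU' hπU x, Module.length_eq_zero_iff]
  have hex := DevLib.coker_exact (FibreVanishQC.structMap π) x
  refine ⟨fun a b => ?_⟩
  have hs : ∀ z, stalkLin (cokernel.π (FibreVanishQC.structMap π)) x z = 0 := fun z =>
    (hex z).2 (FinBirLib.surjective_stalk_structMap π U inferInstance x hx z)
  obtain ⟨a, rfl⟩ := (epi_iff_stalk (cokernel.π (FibreVanishQC.structMap π))).1 inferInstance x a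
  obtain ⟨b, rfl⟩ := (epi_iff_stalk (cokernel.π (FibreVanishQC.structMap π))).1 inferInstance x b
  rw [hs, hs]

include hX' hU hU' hπU in
/-- `χ(O_{X'}) = χ(O_X) + Σ [k(x) : k] δ_x`. -/
theorem euler_normalization (hdim : topologicalKrullDim X ≤ 1)
    (hπ : π ≫ (X ↘ Spec (CommRingCat.of k)) = X' ↘ Spec (CommRingCat.of k)) :
    Curv2.euler k X' (Coh.structureModule X') = Curv2.euler k X (Coh.structureModule X) +
      ∑ᶠ x : X, ((X ↘ Spec (CommRingCat.of k)).residueDegree x : ℤ) * ((Curv2.deltaInv (X.presheaf.stalk x)).toNat : ℤ) := by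
  haveI := EulerIneqLib.isNoetherian_proper (X := X) k
  haveI := hπU
  haveI := mono_structMap π U hU hπU
  haveI : IsLocallyNoetherian X' := LocallyOfFiniteType.isLocallyNoetherian π
  haveI : Coh.IsQCoh (Coh.structureModule X') := inferInstance
  have h1 := DevLib.isCoh_structureModule X
  have h2 := EtAlgEasy.PrinPartPush.isCoh_pushforward_finite π (DevLib.isCoh_structureModule X')
  have h3 := (QCohLib.isCoh_kernel_cokernel (FibreVanishQC.structMap π) h1 h2).2
  have hS := DevLib.cokerSeq_shortExact (FibreVanishQC.structMap π)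
  have hadd := CurveLib.euler_shortExact (K := k) hS h1 h2 h3
  change Curv2.euler k X ((Scheme.Modules.pushforward π).obj (Coh.structureModule X')) =
    Curv2.euler k X (Coh.structureModule X) + Curv2.euler k X (cokernel (FibreVanishQC.structMap π)) at hadd
  rw [← IntLib.euler_push k π hπ (Coh.structureModule X'), hadd]
  congr 1
  have hsupp : CohB1.support (cokernel (FibreVanishQC.structMap π)) ⊆ (U : Set X)ᶜ := fun x hx hxU => by
    refine hx ((Module.length_eq_zero_iff (R := X.presheaf.stalk x)).1 ?_)
    rw [length_coker_stalk π hX' U hU hU' hπU x]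
    exact deltaInv_eq_zero_of_mem π hX' U hU hU' hπU hxU
  rw [CycLib.euler_eq_finsum h3 U.2.isClosed_compl hsupp (FinBirLib.dim_compl hdim U hU)]
  exact finsum_congr fun x => by rw [length_coker_stalk π hX' U hU hU' hπU x]

end Groth.Agent.DeltaBC

namespace Groth.Agent.DeltaBC

attribute [local instance] Curv2.resAlgebra

/-- The residue degree over the base field. -/
theorem residueDegree_eq_finrank_res {k : Type u} [Field k] {X : Scheme.{u}} [X.Over (Spec (CommRingCat.of k))] (x : X) :
    (X ↘ Spec (CommRingCat.of k)).residueDegree x = Module.finrank k (X.residueField x) := by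
  rw [CycLib.residueDegree_eq]
  letI : Algebra k (X.presheaf.stalk x) :=
    ((X.presheaf.germ ⊤ x trivial).hom.comp (Coh.toGlobal (X ↘ Spec (CommRingCat.of k)))).toAlgebra
  refine (LinearEquiv.finrank_eq ?_).symm
  exact
    { AddEquiv.refl (X.residueField x) with
      map_smul' := fun r z => by
        obtain ⟨w, rfl⟩ := Ideal.Quotient.mk_surjective (I := IsLocalRing.maximalIdeal (X.presheaf.stalk x)) z
        rfl }

end Groth.Agent.DeltaBC
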