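import Groth.Agent.DeltaBCLib.Euler
import Groth.Agent.DeltaBCLib.Components
import Groth.Agent.DeltaBCLib.CurvePoint
import Groth.Agent.DeltaBCLib.Count
import Groth.Agent.DeltaBCLib.Stalk
import Groth.Agent.NodePtLib.Gor
import Groth.Agent.DimFormulaLib.Misc
import Groth.Agent.CurveLib.DegTensor
import Groth.Agent.S7653
import Groth.Agent.S1569
import Groth.Agent.S9683

/-!
# The genus of a nodal curve and of its normalization
-/

set_option autoImplicit false
set_option linter.style.haveILetI false
set_option backward.isDefEq.respectTransparency false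

universe u

open CategoryTheory CategoryTheory.Limits AlgebraicGeometry TopologicalSpace IsLocalRing

noncomputable section

namespace Groth.Agent.DeltaBC

variable (k : Type u) [Field k] [IsAlgClosed k] {X : Scheme.{u}} [X.Over (Spec (CommRingCat.of k))]
  [LocallyOfFiniteType (X ↘ Spec (CommRingCat.of k))] [IsReduced X]
  (hequi : ∀ Z ∈ irreducibleComponents (X : Type u), topologicalKrullDim Z = 1)

theorem axes_span_two (K : Type u) [Field K] : Ideal.span {f : MvPowerSeries (Fin 2) K |
    ∃ i j : Fin 2, i ≠ j ∧ f = MvPowerSeries.X i * MvPowerSeries.X j} =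
      Ideal.span {(MvPowerSeries.X 0 * MvPowerSeries.X 1 : MvPowerSeries (Fin 2) K)} := by
  congr 1
  refine Set.ext fun f => ⟨?_, fun h => ⟨0, 1, by decide, h⟩⟩
  rintro ⟨i, j, hij, rfl⟩
  fin_cases i <;> fin_cases j <;> first | exact absurd rfl hij | rfl | exact mul_comm _ _

include hequi in
/-- The δ-invariant of a node is one. -/
theorem deltaInv_node {x : X} (hn : Curv2.IsNode k X x) : Curv2.deltaInv (X.presheaf.stalk x) = 1 := by
  obtain ⟨hx, z, rfl, h⟩ := hn
  let K := AlgebraicClosure k
  haveI : IsIso (CommRingCat.ofHom (algebraMap k K)) :=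
    (RingEquiv.ofBijective (algebraMap k K) (IsAlgClosed.algebraMap_bijective_of_isIntegral (k := k))).toCommRingCatIso.isIso_hom
  let π := Curv2.bcFst k X K
  haveI : IsIso π := inferInstanceAs (IsIso (pullback.fst _ _))
  letI : (Curv2.bc k X K).Over (Spec (CommRingCat.of K)) := ⟨Curv2.bcSnd k X K⟩
  letI := Curv2.stalkAlgebra K (Curv2.bc k X K) z
  haveI := LocallyOfFiniteType.isLocallyNoetherian (X ↘ Spec (CommRingCat.of k))
  haveI : IsLocallyNoetherian (Curv2.bc k X K) := LocallyOfFiniteType.isLocallyNoetherian π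
  let φ : X.presheaf.stalk (π z) →+* (Curv2.bc k X K).presheaf.stalk z := (π.stalkMap z).hom
  have hb : Function.Bijective φ := ConcreteCategory.bijective_of_isIso (π.stalkMap z)
  let E := RingEquiv.ofBijective φ hb
  letI : Algebra K (X.presheaf.stalk (π z)) :=
    (E.symm.toRingHom.comp (algebraMap K ((Curv2.bc k X K).presheaf.stalk z))).toAlgebra
  haveI : IsLocalHom φ := π.toLRSHom.prop z
  have hm : (maximalIdeal (X.presheaf.stalk (π z))).map φ = maximalIdeal ((Curv2.bc k X K).presheaf.stalk z) := by
    rw [← IsLocalRing.maximalIdeal_comap φ, Ideal.map_comap_of_surjective φ hb.2]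
  have hres : Function.Surjective (ResidueField.map φ) := fun c => by
    obtain ⟨b, rfl⟩ := residue_surjective c
    obtain ⟨a, rfl⟩ := hb.2 b
    exact ⟨residue _ a, ResidueField.map_residue φ a⟩
  obtain ⟨e, -⟩ := (NodalLib.isOrdDoublePt_iff φ (Flat.stalkMap π z) hm ⟨RingHom.injective _, hres⟩
    (RingHom.ext fun c => E.apply_symm_apply _)).2 h
  let e2 : AdicCompletion (maximalIdeal (X.presheaf.stalk (π z))) (X.presheaf.stalk (π z)) ≃+*
      (MvPowerSeries (Fin 2) K ⧸ Ideal.span {f : MvPowerSeries (Fin 2) K |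
        ∃ i j : Fin 2, i ≠ j ∧ f = MvPowerSeries.X i * MvPowerSeries.X j}) :=
    e.trans (Ideal.quotEquivOfEq (axes_span_two K).symm)
  obtain ⟨ψ, hψ, hr⟩ := exists_phi_of_axes _ 2 (by norm_num) e2
  have h2 := (invariants_of_completion (X.presheaf.stalk (π z)) (isNagata_stalk k X (π z)) (dim_stalk_eq_one hequi hx) 2 ψ hψ hr).2
  exact WithTop.add_right_cancel ENat.one_ne_top (h2.trans (one_add_one_eq_two).symm)

include hequi in
/-- The δ-invariant at a smooth point is zero. -/
theorem deltaInv_smooth {x : X} (hx : IsClosed ({x} : Set X))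
    (hs : ∃ U : X.Opens, x ∈ U ∧ Smooth (U.ι ≫ (X ↘ Spec (CommRingCat.of k)))) :
    Curv2.deltaInv (X.presheaf.stalk x) = 0 := by
  haveI := LocallyOfFiniteType.isLocallyNoetherian (X ↘ Spec (CommRingCat.of k))
  haveI := NodePtLib.regular_of_smooth_nhd hs
  have hd := dim_stalk_eq_one hequi hx
  obtain ⟨d, hd'⟩ : ∃ d : ℕ, ringKrullDim (X.presheaf.stalk x) = d :=
    ⟨_, (IsRegularLocalRing.spanFinrank_maximalIdeal (R := X.presheaf.stalk x)).symm⟩
  haveI : IsDomain (X.presheaf.stalk x) := RegLocal.isDomain_aux d _ hd'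
  refine (S7653.result _ (isNagata_stalk k X x) hd).2 ⟨inferInstance, ?_⟩
  have hne : ¬ IsField (X.presheaf.stalk x) := fun hf => by
    rw [ringKrullDim_eq_zero_of_isField hf] at hd
    exact zero_ne_one hd
  have h1 : (maximalIdeal (X.presheaf.stalk x)).spanFinrank = 1 := by
    have := IsRegularLocalRing.spanFinrank_maximalIdeal (R := X.presheaf.stalk x)
    rw [hd] at this
    exact_mod_cast this
  have hfg : (maximalIdeal (X.presheaf.stalk x)).FG := (maximalIdeal _).fg_of_isNoetherianRing
  obtain ⟨s, hcard, hspan⟩ : ∃ s : Set (X.presheaf.stalk x), s.ncard = 1 ∧ Ideal.span s = maximalIdeal (X.presheaf.stalk x) :=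
    ⟨_, (Submodule.FG.generators_ncard hfg).trans h1, Submodule.span_generators _⟩
  obtain ⟨f, rfl⟩ := Set.ncard_eq_one.1 hcard
  have hp : (maximalIdeal (X.presheaf.stalk x)).IsPrincipal := ⟨⟨f, hspan.symm⟩⟩
  exact ((IsDiscreteValuationRing.TFAE (X.presheaf.stalk x) hne).out 4 0).1 hp

end Groth.Agent.DeltaBC

namespace Groth.Agent.DeltaBC

variable (k : Type u) [Field k] [IsAlgClosed k] {X X' : Scheme.{u}} [X.Over (Spec (CommRingCat.of k))]
  [X'.Over (Spec (CommRingCat.of k))] [IsProper (X ↘ Spec (CommRingCat.of k))]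

theorem residueDegree_eq_one {x : X} (hx : IsClosed ({x} : Set X)) :
    (X ↘ Spec (CommRingCat.of k)).residueDegree x = 1 := by
  rw [residueDegree_eq_finrank_res]
  letI := Curv2.resAlgebra k X x
  have hb : Function.Bijective (algebraMap k (X.residueField x)) :=
    ⟨RingHom.injective _, NodalLib.resMap_surjective (K := k) hx⟩
  exact ((LinearEquiv.ofBijective (Algebra.linearMap k (X.residueField x)) hb).finrank_eq).symm.trans (Module.finrank_self k)

/-- The genus formula for the normalization of a nodal curve. -/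
theorem genus_normalization (hequi : ∀ Z ∈ irreducibleComponents (X : Type u), topologicalKrullDim Z = 1)
    (hC : Curv2.AtWorstNodal k X) (π : X' ⟶ X) [IsFinite π] (hX' : Pi1.IsNormalScheme X') (U : X.Opens)
    (hU : Dense (U : Set X)) (hU' : Dense ((π ⁻¹ᵁ U : X'.Opens) : Set X')) (hπU : IsIso (π ∣_ U))
    (hπ : π ≫ (X ↘ Spec (CommRingCat.of k)) = X' ↘ Spec (CommRingCat.of k)) :
    (Curv2.genus k X : ℤ) + Nat.card (_root_.ConnectedComponents X') =
      (Curv2.genus k X' : ℤ) + Nat.card {x : X // Curv2.IsNode k X x} + Nat.card (_root_.ConnectedComponents X) := by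
  classical
  haveI := EulerIneqLib.isNoetherian_proper (X := X) k
  haveI := NodePtLib.isReduced_of_atWorstNodal hequi hC
  haveI := isReduced_of_normal hX'
  haveI : IsProper (X' ↘ Spec (CommRingCat.of k)) := by rw [← hπ]; infer_instance
  have hdim : topologicalKrullDim X ≤ 1 := DimFormulaLib.topologicalKrullDim_le_of_components _ fun η hη =>
    (hequi _ (DimFormulaLib.closure_mem_irreducibleComponents hη)).le
  have hdim' : topologicalKrullDim X' ≤ 1 := (S9683.result π).1.trans hdim
  have e1 := CurveLib.euler_eq_sub (k := k) (M := Coh.structureModule X) hdim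
  have e2 := CurveLib.euler_eq_sub (k := k) (M := Coh.structureModule X') hdim'
  rw [finrank_H0_eq_card_components k X] at e1
  rw [finrank_H0_eq_card_components k X'] at e2
  have e3 := euler_normalization k π hX' U hU hU' hπU hdim hπ
  have hclosed : ∀ x : X, x ∉ U → IsClosed ({x} : Set X) := fun x hxU =>
    closure_subset_iff_isClosed.1 fun y hy =>
      (FinBirLib.eq_of_specializes_compl hdim U hU hxU (specializes_iff_mem_closure.2 hy)).symm
  have hsub : {x : X | Curv2.IsNode k X x} ⊆ (U : Set X)ᶜ := fun x hx hxU => by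
    have h1 := deltaInv_node k hequi hx
    rw [deltaInv_eq_zero_of_mem π hX' U hU hU' hπU hxU] at h1
    exact zero_ne_one h1
  have hfinN : {x : X | Curv2.IsNode k X x}.Finite :=
    (CurveLib.finite_of_dim_le_zero U.2.isClosed_compl (FinBirLib.dim_compl hdim U hU)).subset hsub
  have e4 : ∑ᶠ x : X, ((X ↘ Spec (CommRingCat.of k)).residueDegree x : ℤ) *
      ((Curv2.deltaInv (X.presheaf.stalk x)).toNat : ℤ) = (Nat.card {x : X // Curv2.IsNode k X x} : ℤ) := by
    have key : ∀ x : X, ((X ↘ Spec (CommRingCat.of k)).residueDegree x : ℤ) *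
        ((Curv2.deltaInv (X.presheaf.stalk x)).toNat : ℤ) = if Curv2.IsNode k X x then 1 else 0 := fun x => by
      by_cases hn : Curv2.IsNode k X x
      · rw [if_pos hn, deltaInv_node k hequi hn, residueDegree_eq_one k hn.1]
        simp
      · rw [if_neg hn]
        suffices h0 : Curv2.deltaInv (X.presheaf.stalk x) = 0 by simp [h0]
        by_cases hxU : x ∈ U
        · exact deltaInv_eq_zero_of_mem π hX' U hU hU' hπU hxU
        · exact deltaInv_smooth k hequi (hclosed x hxU) ((hC x (hclosed x hxU)).resolve_right hn)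
    rw [finsum_congr key, finsum_eq_sum_of_support_subset (s := hfinN.toFinset) _ (fun x hx => by
        simp only [Function.mem_support] at hx
        rw [Set.Finite.coe_toFinset]
        by_contra h
        exact hx (if_neg h)),
      Finset.sum_congr rfl (fun x hx => if_pos (show Curv2.IsNode k X x from hfinN.mem_toFinset.1 hx)), Finset.sum_const,
      ← Set.ncard_eq_toFinset_card _ hfinN, nsmul_one, ← Nat.card_coe_set_eq]
    rfl
  unfold Curv2.genus
  linarith [e1, e2, e3, e4]

end Groth.Agent.DeltaBC
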