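import Groth.Agent.DeltaBCLib.Main
import Groth.Agent.S9410
import Groth.Agent.S7652

/-!
# The δ-invariant and unramified local extensions
-/

set_option autoImplicit false
set_option linter.style.haveILetI false

universe u

open TensorProduct IsLocalRing

noncomputable section

namespace Groth.Agent.DeltaBC

variable (A : Type u) [CommRing A] [IsLocalRing A] (B : Type u) [CommRing B] [IsLocalRing B] [Algebra A B]
  [IsLocalHom (algebraMap A B)]

theorem isReduced_fibre (hm : (maximalIdeal A).map (algebraMap A B) = maximalIdeal B)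
    (hsep : Algebra.IsSeparable (ResidueField A) (ResidueField B))
    (κ : Type u) [Field κ] [Algebra A κ] (hκ : maximalIdeal A ≤ RingHom.ker (algebraMap A κ)) :
    _root_.IsReduced (B ⊗[A] κ) := by
  let k := ResidueField A
  letI : Algebra k κ := (Ideal.Quotient.lift _ (algebraMap A κ) fun a ha => hκ ha).toAlgebra
  haveI : IsScalarTower A k κ := .of_algebraMap_eq fun a => rfl
  let e₁ : (k ⊗[A] B) ≃ₐ[A] ResidueField B :=
    ((Algebra.TensorProduct.comm A k B).trans
      ((Algebra.TensorProduct.quotIdealMapEquivTensorQuot B (maximalIdeal A)).symm.restrictScalars A)).trans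
      ((Ideal.quotientEquivAlgOfEq A hm))
  haveI : Algebra.IsSeparable k (ResidueField B) := hsep
  let e₂ : (k ⊗[A] B) ≃ₐ[k] ResidueField B := AlgEquiv.ofRingEquiv (f := e₁.toRingEquiv) fun c => by
    obtain ⟨a, rfl⟩ := Ideal.Quotient.mk_surjective c
    show e₁ (algebraMap A (k ⊗[A] B) a) = _
    rw [AlgEquiv.commutes]
    rfl
  haveI : _root_.IsReduced (ResidueField B ⊗[k] κ) := S9410.isReduced_tensor k (ResidueField B) κ
  let j : B ⊗[A] κ →+* ResidueField B ⊗[k] κ :=
    ((Algebra.TensorProduct.comm k κ (ResidueField B)).toRingEquiv.toRingHom.comp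
      ((Algebra.TensorProduct.congr (AlgEquiv.refl : κ ≃ₐ[k] κ) e₂).toRingEquiv.toRingHom.comp
        ((Algebra.TensorProduct.cancelBaseChange A k k κ B).symm.toRingEquiv.toRingHom.comp
          (Algebra.TensorProduct.comm A B κ).toRingEquiv.toRingHom)))
  exact isReduced_of_injective j ((Algebra.TensorProduct.comm k κ (ResidueField B)).injective.comp
    ((Algebra.TensorProduct.congr (AlgEquiv.refl : κ ≃ₐ[k] κ) e₂).injective.comp
      ((Algebra.TensorProduct.cancelBaseChange A k k κ B).symm.injective.comp (Algebra.TensorProduct.comm A B κ).injective)))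

/-- The δ-invariant is unchanged by flat unramified extensions with separable residue field extension. -/
theorem deltaInv_eq_of_unramified [Module.Flat A B] [IsNoetherianRing B] [_root_.IsReduced A]
    (hN : CAlg.IsNagata A) (hdim : ringKrullDim A = 1)
    (hm : (maximalIdeal A).map (algebraMap A B) = maximalIdeal B)
    (hsep : Algebra.IsSeparable (ResidueField A) (ResidueField B)) : Curv2.deltaInv B = Curv2.deltaInv A := by
  haveI := hN.1
  obtain ⟨hfin, hnor, -⟩ := S7652.result A hN hdim
  haveI := hfin
  haveI : IsSimpleModule B (B ⧸ maximalIdeal B) := isSimpleModule_iff_isCoatom.2 (maximalIdeal.isMaximal B).out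
  haveI : Algebra.IsIntegral A (Nor A) := Algebra.IsIntegral.of_finite A _
  rw [deltaInv_eq (B := B) hnor hdim (hm ▸ Ideal.le_radical) fun n' hn' => ?_, hm,
    Module.length_eq_one B (B ⧸ maximalIdeal B), mul_one]
  haveI := hn'
  letI : Field (Nor A ⧸ n') := Ideal.Quotient.field _
  refine isReduced_fibre A B hm hsep (Nor A ⧸ n') fun a ha => ?_
  rw [RingHom.mem_ker, IsScalarTower.algebraMap_apply A (Nor A) (Nor A ⧸ n'), Ideal.Quotient.algebraMap_eq,
    Ideal.Quotient.eq_zero_iff_mem, ← Ideal.mem_comap,
    eq_maximalIdeal (Ideal.isMaximal_comap_of_isIntegral_of_isMaximal (R := A) n')]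
  exact ha

end Groth.Agent.DeltaBC
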