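import Mathlib
import Groth.Prelude.Def_Curv2
import Groth.Agent.RegLocLib.FiniteNor

/-!
# The δ-invariant along flat local homomorphisms
-/

set_option autoImplicit false
set_option linter.style.haveILetI false

universe u

open TensorProduct IsLocalRing

noncomputable section

namespace Groth.Agent.DeltaBC

/-- A noetherian local ring whose maximal ideal is generated by a nonzerodivisor is an integrally closed domain. -/
theorem normal_of_maximalIdeal_span {R : Type u} [CommRing R] [IsNoetherianRing R] [IsLocalRing R] (π : R)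
    (hπ : π ∈ nonZeroDivisors R) (hm : maximalIdeal R = Ideal.span {π}) : IsDomain R ∧ IsIntegrallyClosed R := by
  haveI : NoZeroDivisors R := by
    have hdec : ∀ x : R, x ≠ 0 → ∃ (u : Rˣ) (i : ℕ), x = u * π ^ i := by
      intro x hx
      by_contra hne
      push Not at hne
      have hall : ∀ i, ∃ y, x = y * π ^ i := fun i => by
        induction i with
        | zero => exact ⟨x, by rw [pow_zero, mul_one]⟩
        | succ i ih =>
          obtain ⟨y, hy⟩ := ih
          have hyu : ¬ IsUnit y := fun h => hne h.unit i (by rw [IsUnit.unit_spec]; exact hy)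
          obtain ⟨z, hz⟩ := Ideal.mem_span_singleton'.1 (hm.le ((mem_maximalIdeal y).2 hyu))
          exact ⟨z, by rw [hy, ← hz, mul_assoc, ← pow_succ']⟩
      have hinf : x ∈ ⨅ i : ℕ, maximalIdeal R ^ i := Submodule.mem_iInf _ |>.2 fun i => by
        obtain ⟨y, hy⟩ := hall i
        rw [hy, hm]
        exact Ideal.mul_mem_left _ _ (Ideal.pow_mem_pow (Ideal.mem_span_singleton_self π) i)
      rw [Ideal.iInf_pow_eq_bot_of_isLocalRing _ (maximalIdeal.isMaximal R).ne_top] at hinf
      exact hx (Ideal.mem_bot.1 hinf)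
    refine ⟨fun {x y} hxy => ?_⟩
    by_contra h
    push Not at h
    obtain ⟨u, i, rfl⟩ := hdec x h.1
    obtain ⟨v, j, rfl⟩ := hdec y h.2
    have h0 : π ^ (i + j) = 0 := by
      rw [← (u * v).isUnit.mul_right_eq_zero, Units.val_mul, pow_add, ← hxy]
      ring
    exact zero_ne_one ((mul_left_mem_nonZeroDivisors_eq_zero_iff (pow_mem hπ (i + j))).1
      (show π ^ (i + j) * 1 = 0 by rw [mul_one, h0])).symm
  haveI : IsDomain R := NoZeroDivisors.to_isDomain R
  refine ⟨inferInstance, ?_⟩
  have h40 : (maximalIdeal R).IsPrincipal ↔ IsPrincipalIdealRing R :=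
    (tfae_of_isNoetherianRing_of_isLocalRing_of_isDomain R).out 4 0
  haveI : IsPrincipalIdealRing R := h40.1 ⟨⟨π, hm⟩⟩
  infer_instance

variable (A : Type u) [CommRing A]

/-- The integral closure in the total ring of fractions. -/
abbrev Nor : Type u := ↥(integralClosure A (FractionRing A))

variable (B : Type u) [CommRing B] [Algebra A B]

/-- The cokernel after base change. -/
def quotEquiv : ((B ⊗[A] Nor A) ⧸ LinearMap.range (Algebra.linearMap B (B ⊗[A] Nor A))) ≃ₗ[B]
    B ⊗[A] (Nor A ⧸ LinearMap.range (Algebra.linearMap A (Nor A))) :=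
  LinearEquiv.symm <| by
    let g := (LinearMap.range (Algebra.linearMap A (Nor A))).mkQ.baseChange B
    have hex : Function.Exact ((Algebra.linearMap A (Nor A)).lTensor B)
        ((LinearMap.range (Algebra.linearMap A (Nor A))).mkQ.lTensor B) :=
      lTensor_exact B (LinearMap.exact_map_mkQ_range _) (Submodule.mkQ_surjective _)
    have hker : LinearMap.ker g = LinearMap.range (Algebra.linearMap B (B ⊗[A] Nor A)) := by
      ext x
      refine (hex x).trans ⟨?_, ?_⟩
      · rintro ⟨y, rfl⟩
        refine ⟨TensorProduct.rid A B y, ?_⟩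
        induction y with
        | zero => simp
        | add a b ha hb => simp only [map_add, ha, hb]
        | tmul b a =>
          show algebraMap B (B ⊗[A] Nor A) (TensorProduct.rid A B (b ⊗ₜ a)) = b ⊗ₜ algebraMap A (Nor A) a
          rw [TensorProduct.rid_tmul, Algebra.TensorProduct.algebraMap_apply, Algebra.algebraMap_self, RingHom.id_apply,
            TensorProduct.smul_tmul, Algebra.algebraMap_eq_smul_one]
      · rintro ⟨b, rfl⟩
        exact ⟨b ⊗ₜ 1, by simp [Algebra.TensorProduct.algebraMap_apply]⟩
    exact ((Submodule.quotEquivOfEq _ _ hker.symm).trans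
      (g.quotKerEquivOfSurjective (LinearMap.lTensor_surjective B (Submodule.mkQ_surjective _)))).symm

variable {A B}

variable [Module.Flat A B]

theorem map_nonZeroDivisors {s : A} (hs : s ∈ nonZeroDivisors A) : algebraMap A B s ∈ nonZeroDivisors B := by
  rw [mem_nonZeroDivisors_iff_right]
  intro b hb
  have hinj := Module.Flat.isSMulRegular_of_isRegular (M := B) (isRegular_iff_mem_nonZeroDivisors.2 hs)
  refine hinj (show s • b = s • (0 : B) from ?_)
  rw [smul_zero, Algebra.smul_def, mul_comm]
  exact hb

variable (A B) in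
/-- The comparison of total rings of fractions. -/
def frMap : FractionRing A →ₐ[A] FractionRing B :=
  IsLocalization.liftAlgHom (M := nonZeroDivisors A) (f := Algebra.ofId A (FractionRing B)) fun s => by
    show IsUnit (algebraMap A (FractionRing B) s)
    rw [IsScalarTower.algebraMap_apply A B (FractionRing B)]
    exact IsLocalization.map_units (FractionRing B) ⟨_, map_nonZeroDivisors s.2⟩

variable (A B) in
/-- The base change of the normalization inside the fractions. -/
def toFr : B ⊗[A] Nor A →ₐ[B] FractionRing B :=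
  Algebra.TensorProduct.lift (Algebra.ofId B (FractionRing B)) ((frMap A B).comp (integralClosure A (FractionRing A)).val)
    fun _ _ => Commute.all _ _

variable [IsNoetherianRing A] [_root_.IsReduced A] [Module.Finite A (Nor A)]

theorem toFr_injective : Function.Injective (toFr A B) := by
  obtain ⟨s, hs, hcond⟩ := RegLocLib.exists_conductor (R := A) ‹_›
  choose d hd using fun z : Nor A => hcond (z : FractionRing A) z.2
  have hF := IsFractionRing.injective A (FractionRing A)
  let j : Nor A →ₗ[A] A :=
    { toFun := d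
      map_add' := fun x y => hF (by rw [map_add, ← hd, ← hd, ← hd, Subalgebra.coe_add, mul_add])
      map_smul' := fun a x => hF (by
        rw [RingHom.id_apply, smul_eq_mul, map_mul, ← hd, ← hd, Subalgebra.coe_smul, Algebra.smul_def]
        ring) }
  have hj : Function.Injective j := fun x y h => Subtype.ext <| by
    have h1 : algebraMap A (FractionRing A) s * (x : FractionRing A) = algebraMap A (FractionRing A) s * y := by
      rw [hd, hd, show d x = d y from h]
    exact (IsLocalization.map_units (FractionRing A) ⟨s, hs⟩).mul_left_cancel h1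
  let J : B ⊗[A] Nor A →ₗ[A] B := (TensorProduct.rid A B).toLinearMap ∘ₗ j.lTensor B
  have hJ : Function.Injective J :=
    (TensorProduct.rid A B).injective.comp (Module.Flat.lTensor_preserves_injective_linearMap j hj)
  have key : ∀ x, algebraMap B (FractionRing B) (algebraMap A B s) * toFr A B x = algebraMap B (FractionRing B) (J x) := by
    intro x
    induction x with
    | zero => simp
    | add a b ha hb => simp only [map_add, mul_add, ha, hb]
    | tmul b z =>
      show _ * (algebraMap B (FractionRing B) b * frMap A B z) = algebraMap B (FractionRing B) (d z • b)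
      rw [Algebra.smul_def, map_mul, mul_left_comm, ← IsScalarTower.algebraMap_apply, ← IsScalarTower.algebraMap_apply,
        ← (frMap A B).commutes s, ← map_mul, hd, AlgHom.commutes, mul_comm]
  intro x y hxy
  refine hJ (IsFractionRing.injective B (FractionRing B) ?_)
  rw [← key, ← key, hxy]

theorem isIntegral_toFr (x : B ⊗[A] Nor A) : IsIntegral B (toFr A B x) :=
  IsIntegral.map (toFr A B) (Algebra.IsIntegral.isIntegral (R := B) x)

variable (A B) in
/-- The base change of the normalization inside the normalization. -/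
def toNor : B ⊗[A] Nor A →ₐ[B] Nor B :=
  (toFr A B).codRestrict _ isIntegral_toFr

theorem toNor_injective : Function.Injective (toNor A B) := fun _ _ h =>
  toFr_injective (congrArg Subtype.val h :)

theorem length_quot_le : Module.length B ((B ⊗[A] Nor A) ⧸ LinearMap.range (Algebra.linearMap B (B ⊗[A] Nor A))) ≤
    Curv2.deltaInv B := by
  have e : LinearMap.range (Algebra.linearMap B (B ⊗[A] Nor A)) =
      (LinearMap.range (Algebra.linearMap B (Nor B))).comap (toNor A B).toLinearMap := by
    ext x
    constructor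
    · rintro ⟨b, rfl⟩
      exact ⟨b, ((toNor A B).commutes b).symm⟩
    · rintro ⟨b, hb⟩
      exact ⟨b, toNor_injective (((toNor A B).commutes b).trans hb)⟩
  refine Module.length_le_of_injective (Submodule.mapQ _ _ (toNor A B).toLinearMap e.le) ?_
  rw [← LinearMap.ker_eq_bot, Submodule.mapQ, Submodule.ker_liftQ, LinearMap.ker_comp, Submodule.ker_mkQ, ← e,
    Submodule.mkQ_map_self]

section Local

variable [IsLocalRing A] [IsLocalRing B] [IsNoetherianRing B] [IsLocalHom (algebraMap A B)]

/-- The δ-invariant grows by at least the length of the closed fibre. -/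
theorem mul_le_deltaInv :
    Curv2.deltaInv A * Module.length B (B ⧸ (maximalIdeal A).map (algebraMap A B)) ≤ Curv2.deltaInv B := by
  refine le_trans (le_of_eq ?_) (length_quot_le (A := A) (B := B))
  rw [(quotEquiv A B).length_eq, IsLocalRing.length_baseChange A B]
  rfl

/-- The δ-invariant does not decrease. -/
theorem deltaInv_le : Curv2.deltaInv A ≤ Curv2.deltaInv B := by
  refine le_trans ?_ (mul_le_deltaInv (A := A) (B := B))
  haveI : Nontrivial (B ⧸ (maximalIdeal A).map (algebraMap A B)) :=
    Ideal.Quotient.nontrivial_iff.2 (map_maximalIdeal_lt_top (algebraMap A B)).ne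
  exact le_mul_of_one_le_right' (Order.one_le_iff_pos.2 Module.length_pos)

variable (hnor : ∀ p : PrimeSpectrum (Nor A),
    IsDomain (Localization.AtPrime p.asIdeal) ∧ IsIntegrallyClosed (Localization.AtPrime p.asIdeal))
  (hdim : ringKrullDim A = 1) (hrad : maximalIdeal B ≤ ((maximalIdeal A).map (algebraMap A B)).radical)
  (hred : ∀ n' : Ideal (Nor A), n'.IsMaximal → _root_.IsReduced (B ⊗[A] (Nor A ⧸ n')))

include hnor hdim hrad hred in
theorem normal_atPrime (n : Ideal (B ⊗[A] Nor A)) [n.IsMaximal] :
    IsDomain (Localization.AtPrime n) ∧ IsIntegrallyClosed (Localization.AtPrime n) := by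
  let C := B ⊗[A] Nor A
  let ι : Nor A →ₐ[A] C := Algebra.TensorProduct.includeRight
  let n' : Ideal (Nor A) := n.comap ι
  haveI : Algebra.IsIntegral B C := Algebra.IsIntegral.of_finite B C
  have hnB : n.comap (algebraMap B C) = maximalIdeal B :=
    eq_maximalIdeal (Ideal.isMaximal_comap_of_isIntegral_of_isMaximal n)
  haveI : n'.IsPrime := Ideal.IsPrime.comap _
  have hn'A : n'.comap (algebraMap A (Nor A)) = maximalIdeal A := by
    rw [← (Ideal.IsMaximal.eq_of_le (maximalIdeal.isMaximal A) (Ideal.IsPrime.comap (algebraMap A (Nor A))).ne_top ?_)]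
    intro a ha
    show ι (algebraMap A (Nor A) a) ∈ n
    rw [ι.commutes, IsScalarTower.algebraMap_apply A B C]
    show algebraMap A B a ∈ n.comap (algebraMap B C)
    rw [hnB]
    exact map_nonunit (algebraMap A B) a ha
  haveI : Algebra.IsIntegral A (Nor A) := Algebra.IsIntegral.of_finite A _
  haveI hn'max : n'.IsMaximal := Ideal.isMaximal_of_isIntegral_of_isMaximal_comap n' (hn'A ▸ maximalIdeal.isMaximal A)
  haveI : IsNoetherianRing (Nor A) := isNoetherian_of_tower A (isNoetherian_of_isNoetherianRing_of_finite A _)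
  haveI : IsNoetherianRing C := isNoetherian_of_tower B (isNoetherian_of_isNoetherianRing_of_finite B C)
  let L := Localization.AtPrime n'
  haveI : IsNoetherianRing L := IsLocalization.isNoetherianRing n'.primeCompl L inferInstance
  obtain ⟨hd, hic⟩ := hnor ⟨n', inferInstance⟩
  haveI : IsDomain L := hd
  haveI : IsIntegrallyClosed L := hic
  have hdimL : Ring.KrullDimLE 1 L := by
    refine Ring.krullDimLE_iff.2 ?_
    rw [IsLocalization.AtPrime.ringKrullDim_eq_height n' L]
    refine Ideal.height_le_ringKrullDim_of_isPrime.trans ?_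
    rw [show ((1 : ℕ) : WithBot ℕ∞) = ringKrullDim A by rw [hdim]; rfl]
    refine Order.krullDim_le_of_strictMono (fun P => ⟨P.asIdeal.comap (algebraMap A (Nor A)), inferInstance⟩) fun P Q hPQ => ?_
    obtain ⟨x, hxQ, hxP⟩ := SetLike.exists_of_lt (show P.asIdeal < Q.asIdeal from hPQ)
    exact Ideal.comap_lt_comap_of_integral_mem_sdiff (show P.asIdeal ≤ Q.asIdeal from hPQ.le) ⟨hxQ, hxP⟩
      (Algebra.IsIntegral.isIntegral x)
  obtain ⟨⟨ρ, hρ⟩⟩ : Submodule.IsPrincipal (maximalIdeal L) := by
    have h34 : (IsIntegrallyClosed L ∧ ∀ P : Ideal L, P ≠ ⊥ → P.IsPrime → P = maximalIdeal L) ↔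
        (maximalIdeal L).IsPrincipal := (tfae_of_isNoetherianRing_of_isLocalRing_of_isDomain L).out 3 4
    exact h34.1 ⟨inferInstance, fun P hP0 hP =>
      eq_maximalIdeal ((Ring.krullDimLE_one_iff_of_noZeroDivisors.1 hdimL) P hP0 hP)⟩
  obtain ⟨a, u, rfl⟩ := IsLocalization.exists_mk'_eq n'.primeCompl ρ
  -- the localization
  let Cn := Localization.AtPrime n
  let φ : Nor A →+* Cn := (algebraMap C Cn).comp ι.toRingHom
  have hφu : ∀ v : Nor A, v ∉ n' → IsUnit (φ v) := fun v hv =>
    IsLocalization.map_units Cn (⟨ι v, hv⟩ : n.primeCompl)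
  have hn'span : ∀ z ∈ n', φ z ∈ Ideal.span {φ a} := by
    intro z hz
    have hz' : algebraMap (Nor A) L z ∈ Ideal.span {IsLocalization.mk' L a u} := by
      rw [← show maximalIdeal L = Ideal.span {IsLocalization.mk' L a u} from hρ]
      exact (IsLocalization.AtPrime.to_map_mem_maximal_iff L n' z).2 hz
    obtain ⟨w, hw⟩ := Ideal.mem_span_singleton'.1 hz'
    obtain ⟨c, t, rfl⟩ := IsLocalization.exists_mk'_eq n'.primeCompl w
    rw [← IsLocalization.mk'_mul, IsLocalization.mk'_eq_iff_eq_mul, ← map_mul] at hw
    obtain ⟨v, hv⟩ := (IsLocalization.eq_iff_exists n'.primeCompl L).1 hw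
    have h1 := congrArg φ hv
    simp only [map_mul, Submonoid.coe_mul] at h1
    have h2 := (hφu v v.2).mul_left_cancel h1
    rw [Ideal.mem_span_singleton, ← ((hφu _ t.2).mul (hφu _ u.2)).dvd_mul_right (a := φ a)]
    exact ⟨φ c, by rw [← h2]; ring⟩
  -- the fibre is reduced of dimension zero
  have hmin : n ∈ (Ideal.map ι n').minimalPrimes := by
    refine ⟨⟨inferInstance, Ideal.map_le_iff_le_comap.2 le_rfl⟩, fun P hP hPn => ?_⟩
    haveI := hP.1
    have hPB : P.comap (algebraMap B C) = maximalIdeal B := by
      refine (Ideal.IsMaximal.eq_of_le (maximalIdeal.isMaximal B) (Ideal.IsPrime.comap (algebraMap B C)).ne_top ?_).symm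
      refine hrad.trans (((Ideal.IsPrime.comap (algebraMap B C)).isRadical.radical_le_iff).2 ?_)
      refine Ideal.map_le_iff_le_comap.2 fun x hx => ?_
      show algebraMap B C (algebraMap A B x) ∈ P
      rw [← IsScalarTower.algebraMap_apply, ← ι.commutes]
      exact hP.2 (Ideal.mem_map_of_mem ι (show x ∈ n'.comap (algebraMap A (Nor A)) by rw [hn'A]; exact hx))
    exact ((Ideal.isMaximal_of_isIntegral_of_isMaximal_comap P (hPB ▸ maximalIdeal.isMaximal B)).eq_of_le
      Ideal.IsPrime.ne_top' hPn).ge
  have hJrad : (Ideal.map ι n').IsRadical := by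
    haveI := hred n' hn'max
    have hk : RingHom.ker (Algebra.TensorProduct.map (AlgHom.id A B) (Ideal.Quotient.mkₐ A n')) = Ideal.map ι n' := by
      rw [Algebra.TensorProduct.lTensor_ker _ (Ideal.Quotient.mkₐ_surjective A n')]
      congr 1
      exact Ideal.Quotient.mkₐ_ker A n'
    intro x hx
    obtain ⟨m, hm⟩ := hx
    rw [← hk, RingHom.mem_ker] at hm ⊢
    rw [map_pow] at hm
    exact IsReduced.eq_zero _ ⟨m, hm⟩
  have hmax : maximalIdeal Cn = Ideal.span {φ a} := by
    refine le_antisymm (fun y hy => ?_) ?_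
    · obtain ⟨x, t, rfl⟩ := IsLocalization.exists_mk'_eq n.primeCompl y
      have hx : x ∈ n := (IsLocalization.AtPrime.mk'_mem_maximal_iff Cn n x t).1 hy
      obtain ⟨v, hv, hvx⟩ : ∃ v, v ∉ n ∧ v * x ∈ Ideal.map ι n' := by
        by_contra hne
        push Not at hne
        let S : Submonoid C := n.primeCompl ⊔ Submonoid.powers x
        have hd : Disjoint (Ideal.map ι n' : Set C) (S : Set C) := Set.disjoint_left.2 fun y hyJ hyS => by
          obtain ⟨v, hv, w, ⟨i, rfl⟩, rfl⟩ := Submonoid.mem_sup.1 hyS
          refine hne v hv (hJrad ⟨i + 1, ?_⟩)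
          rw [show (v * x) ^ (i + 1) = (v ^ i * x) * (v * x ^ i) by ring]
          exact Ideal.mul_mem_left _ _ hyJ
        obtain ⟨P, hP, hJP, hPS⟩ := Ideal.exists_le_prime_disjoint _ S hd
        have hPn : P ≤ n := fun y hy => by
          by_contra hyn
          exact Set.disjoint_left.1 hPS hy (Submonoid.mem_sup_left hyn)
        exact Set.disjoint_left.1 hPS (hmin.2 ⟨hP, hJP⟩ hPn hx) (Submonoid.mem_sup_right ⟨1, pow_one x⟩)
      have hvx' : algebraMap C Cn (v * x) ∈ Ideal.span {φ a} := by
        have h := Ideal.mem_map_of_mem (algebraMap C Cn) hvx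
        rw [← Ideal.map_coe ι, Ideal.map_map] at h
        exact (Ideal.map_le_iff_le_comap.2 hn'span) h
      rw [map_mul] at hvx'
      have h2 : algebraMap C Cn x ∈ Ideal.span {φ a} := by
        rwa [Ideal.unit_mul_mem_iff_mem _ (IsLocalization.map_units Cn (⟨v, hv⟩ : n.primeCompl))] at hvx'
      rw [IsLocalization.mk'_eq_mul_mk'_one]
      exact Ideal.mul_mem_right _ _ h2
    · rw [Ideal.span_singleton_le_iff_mem]
      refine (IsLocalization.AtPrime.to_map_mem_maximal_iff Cn n (ι a)).2 ?_
      show a ∈ n'
      have : IsLocalization.mk' L a u ∈ maximalIdeal L := by rw [hρ]; exact Ideal.mem_span_singleton_self _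
      exact (IsLocalization.AtPrime.mk'_mem_maximal_iff L n' a u).1 this
  refine normal_of_maximalIdeal_span (φ a) ?_ hmax
  -- a nonzerodivisor in the maximal ideal
  obtain ⟨s, hsm, hs⟩ : ∃ s ∈ maximalIdeal A, s ∈ nonZeroDivisors A := by
    by_contra hne
    push Not at hne
    have hfin := (⊥ : Ideal A).finite_minimalPrimes_of_isNoetherianRing A
    obtain ⟨P, hP, hPle⟩ := (Ideal.subset_union_prime (s := hfin.toFinset) (f := fun P => P) (I := maximalIdeal A)
      ⊥ ⊥ fun P hP _ _ => (hfin.mem_toFinset.1 hP).1.1).1 fun x hx => by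
        by_contra hx'
        exact hne x hx (RegLocLib.mem_nonZeroDivisors_of_forall_notMem fun η hη hxη =>
          hx' (Set.mem_iUnion₂.2 ⟨η, Finset.mem_coe.2 (hfin.mem_toFinset.2 hη), hxη⟩))
    have hPmin := hfin.mem_toFinset.1 hP
    obtain rfl : maximalIdeal A = P := (maximalIdeal.isMaximal A).eq_of_le hPmin.1.1.ne_top hPle
    have h0 : (maximalIdeal A).height = 0 := Ideal.height_eq_zero_iff.2 hPmin
    rw [← IsLocalRing.maximalIdeal_height_eq_ringKrullDim, h0] at hdim
    exact zero_ne_one (α := WithBot ℕ∞) hdim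
  have hsC : algebraMap C Cn (algebraMap A C s) ∈ nonZeroDivisors Cn := by
    refine IsLocalization.map_nonZeroDivisors_le n.primeCompl Cn ⟨_, ?_, rfl⟩
    refine comap_nonZeroDivisors_le_of_injective (f := toFr A B) toFr_injective ?_
    show toFr A B (algebraMap A C s) ∈ nonZeroDivisors (FractionRing B)
    rw [AlgHom.map_algebraMap, IsScalarTower.algebraMap_apply A B (FractionRing B)]
    exact (IsLocalization.map_units (FractionRing B) ⟨_, map_nonZeroDivisors hs⟩).mem_nonZeroDivisors
  have hsmem : φ (algebraMap A (Nor A) s) ∈ Ideal.span {φ a} :=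
    hn'span _ (show s ∈ n'.comap (algebraMap A (Nor A)) by rw [hn'A]; exact hsm)
  obtain ⟨r, hr⟩ := Ideal.mem_span_singleton'.1 hsmem
  rw [show φ (algebraMap A (Nor A) s) = algebraMap C Cn (algebraMap A C s) from congrArg (algebraMap C Cn) (ι.commutes s)] at hr
  rw [← hr] at hsC
  exact (mul_mem_nonZeroDivisors.1 hsC).2

include hnor hdim hrad hred in
theorem toNor_surjective : Function.Surjective (toNor A B) := by
  intro y
  let C := B ⊗[A] Nor A
  let I : Ideal C :=
    { carrier := {d | ∃ c, toFr A B d * (y : FractionRing B) = toFr A B c}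
      add_mem' := by
        rintro d d' ⟨c, hc⟩ ⟨c', hc'⟩
        exact ⟨c + c', by rw [map_add, add_mul, hc, hc', ← map_add]⟩
      zero_mem' := ⟨0, by simp⟩
      smul_mem' := by
        rintro r d ⟨c, hc⟩
        exact ⟨r * c, by rw [smul_eq_mul, map_mul, mul_assoc, hc, ← map_mul]⟩ }
  suffices hI : (1 : C) ∈ I by
    obtain ⟨c, hc⟩ := hI
    exact ⟨c, Subtype.ext (by rw [map_one, one_mul] at hc; exact hc.symm)⟩
  by_contra hI
  obtain ⟨n, hn, hIn⟩ := Ideal.exists_le_maximal I fun h => hI (h ▸ trivial)
  obtain ⟨hd, hic⟩ := normal_atPrime hnor hdim hrad hred n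
  let Cn := Localization.AtPrime n
  haveI : IsDomain Cn := hd
  haveI : IsIntegrallyClosed Cn := hic
  let K := FractionRing Cn
  let ψ : C →ₐ[B] K := IsScalarTower.toAlgHom B C K
  have hne : ∀ t : nonZeroDivisors B, IsUnit (Algebra.ofId B K (t : B)) := fun t => by
    refine IsUnit.mk0 _ fun h0 => ?_
    change algebraMap B K (t : B) = 0 at h0
    rw [IsScalarTower.algebraMap_apply B Cn K, map_eq_zero_iff _ (IsFractionRing.injective Cn K),
      IsScalarTower.algebraMap_apply B C Cn, IsLocalization.map_eq_zero_iff n.primeCompl] at h0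
    obtain ⟨v, hv⟩ := h0
    refine v.2 ?_
    have h1 := congrArg (toFr A B) hv
    rw [map_mul, AlgHom.commutes, map_zero] at h1
    have h2 : toFr A B (v : C) = 0 := (IsLocalization.map_units (FractionRing B) t).mul_left_eq_zero.1 h1
    rw [toFr_injective (h2.trans (map_zero _).symm)]
    exact n.zero_mem
  let θ : FractionRing B →ₐ[B] K := IsLocalization.liftAlgHom (M := nonZeroDivisors B) hne
  have hint : IsIntegral Cn (θ y) := (IsIntegral.map θ y.2).tower_top
  obtain ⟨z, hz⟩ := (isIntegrallyClosed_iff K).1 hic hint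
  obtain ⟨c, u, rfl⟩ := IsLocalization.exists_mk'_eq n.primeCompl z
  obtain ⟨⟨b, t⟩, hbt⟩ := IsLocalization.surj (nonZeroDivisors B) (y : FractionRing B)
  have h3 : algebraMap C Cn (algebraMap B C b * (u : C)) = algebraMap C Cn (algebraMap B C t * c) := by
    apply IsFractionRing.injective Cn K
    have h4 := congrArg θ hbt
    rw [map_mul, AlgHom.commutes, AlgHom.commutes] at h4
    rw [map_mul, map_mul, map_mul, map_mul, ← IsScalarTower.algebraMap_apply B C Cn,
      ← IsScalarTower.algebraMap_apply B C Cn, ← IsScalarTower.algebraMap_apply B Cn K,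
      ← IsScalarTower.algebraMap_apply B Cn K, ← h4, ← hz,
      ← IsLocalization.mk'_spec Cn c u, map_mul]
    ring
  obtain ⟨v, hv⟩ := (IsLocalization.eq_iff_exists n.primeCompl Cn).1 h3
  have hmem : (v : C) * u ∈ I := by
    refine ⟨v * c, (IsLocalization.map_units (FractionRing B) t).mul_right_cancel ?_⟩
    have h5 := congrArg (toFr A B) hv
    rw [map_mul, map_mul, map_mul, map_mul] at h5
    erw [AlgHom.commutes, AlgHom.commutes] at h5
    rw [map_mul, map_mul, mul_assoc, hbt]
    calc toFr A B v * toFr A B u * algebraMap B (FractionRing B) b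
        = toFr A B v * (algebraMap B (FractionRing B) b * toFr A B u) := by ring
      _ = _ := h5
      _ = _ := by ring
  exact ((n.primeCompl.mul_mem v.2 u.2) : (v : C) * u ∉ n) (hIn hmem)

include hnor hdim hrad hred in
/-- The δ-invariant along a flat local homomorphism with normal base change of the normalization. -/
theorem deltaInv_eq :
    Curv2.deltaInv B = Curv2.deltaInv A * Module.length B (B ⧸ (maximalIdeal A).map (algebraMap A B)) := by
  let e := LinearEquiv.ofBijective (toNor A B).toLinearMap ⟨toNor_injective, toNor_surjective hnor hdim hrad hred⟩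
  have h : (LinearMap.range (Algebra.linearMap B (B ⊗[A] Nor A))).map e.toLinearMap =
      LinearMap.range (Algebra.linearMap B (Nor B)) := by
    rw [← LinearMap.range_comp]
    congr 1
    exact LinearMap.ext fun b => (toNor A B).commutes b
  refine ((Submodule.Quotient.equiv _ _ e h).length_eq).symm.trans ?_
  rw [(quotEquiv A B).length_eq, IsLocalRing.length_baseChange A B]
  rfl

end Local

end Groth.Agent.DeltaBC
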