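import Groth.Agent.DeltaBCLib.NormalModel
import Groth.Agent.RegLocLib.FiniteNor
import Groth.Agent.FinBirLib.Iso
import Groth.Agent.FlatLocus.ModInjFlat
import Groth.Agent.DCohLib.Pullback
import Groth.Agent.QCohLib.Push
import Groth.Agent.FormalSysLib.PushChart
import Groth.Agent.S7689

/-!
# The cokernel of a normalization map and the δ-invariants
-/

set_option autoImplicit false
set_option linter.style.haveILetI false
set_option backward.isDefEq.respectTransparency false

universe u

open CategoryTheory CategoryTheory.Limits AlgebraicGeometry TopologicalSpace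
open Groth.Agent.PullbackMod

noncomputable section

namespace Groth.Agent.DeltaBC

theorem isReduced_of_normal {X : Scheme.{u}} (h : Pi1.IsNormalScheme X) : IsReduced X := by
  haveI : ∀ x : X, _root_.IsReduced (X.presheaf.stalk x) := fun x => by
    haveI := (h x).1
    infer_instance
  exact isReduced_of_isReduced_stalk X

/-- Sections of a normal scheme over an affine open have normal localisations at maximal ideals. -/
theorem normal_localization {X : Scheme.{u}} (h : Pi1.IsNormalScheme X) {W : X.Opens} (hW : IsAffineOpen W)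
    (q : Ideal Γ(X, W)) [q.IsPrime] :
    IsDomain (Localization.AtPrime q) ∧ IsIntegrallyClosed (Localization.AtPrime q) := by
  have hy : hW.fromSpec ⟨q, inferInstance⟩ ∈ W := by
    show _ ∈ (W : Set X)
    rw [← hW.range_fromSpec]; exact ⟨_, rfl⟩
  letI := TopCat.Presheaf.algebra_section_stalk X.presheaf (⟨_, hy⟩ : W)
  haveI := hW.isLocalization_stalk ⟨_, hy⟩
  have hq : (hW.primeIdealOf ⟨_, hy⟩).asIdeal = q :=
    congrArg PrimeSpectrum.asIdeal (hW.fromSpec.isOpenEmbedding.injective (hW.fromSpec_primeIdealOf ⟨_, hy⟩))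
  haveI : IsLocalization.AtPrime (X.presheaf.stalk (hW.fromSpec ⟨q, inferInstance⟩)) q := by
    have := hW.isLocalization_stalk ⟨_, hy⟩
    simp only [hq] at this
    exact this
  let e := (IsLocalization.algEquiv q.primeCompl (X.presheaf.stalk (hW.fromSpec ⟨q, inferInstance⟩)) (Localization.AtPrime q)).toRingEquiv
  obtain ⟨hd, hi⟩ := h (hW.fromSpec ⟨q, inferInstance⟩)
  haveI := hd
  haveI := hi
  exact ⟨e.symm.toMulEquiv.isDomain _, IsIntegrallyClosed.of_equiv e⟩

variable {X X' : Scheme.{u}} [IsReduced X] [IsLocallyNoetherian X] (π : X' ⟶ X) [IsFinite π]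
  (hX' : Pi1.IsNormalScheme X') (U : X.Opens) (hU : Dense (U : Set X))
  (hU' : Dense ((π ⁻¹ᵁ U : X'.Opens) : Set X')) (hπU : IsIso (π ∣_ U))

include hU hπU in
theorem mono_structMap : Mono (FibreVanishQC.structMap π) :=
  (mono_iff_stalk _).2 fun x => by
    refine (injective_iff_map_eq_zero _).2 fun z hz => ?_
    obtain ⟨V, hxV, a, rfl⟩ := TopCat.Presheaf.exists_germ_eq _ z
    rw [stalkLin_germ] at hz
    let P := (Scheme.Modules.pushforward π).obj (Coh.structureModule X')
    obtain ⟨W, hxW, i, i', he⟩ := TopCat.Presheaf.germ_eq P.presheaf x hxV hxV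
      ((FibreVanishQC.structMap π).app V a) 0 (by rw [hz, map_zero])
    rw [map_zero] at he
    rw [← TopCat.Presheaf.germ_res_apply (Coh.structureModule X).presheaf i x hxW a]
    have h2 : (Coh.structureModule X).presheaf.map i.op a = 0 := by
      refine FinBirLib.app_injective π U hU hπU W ?_
      rw [map_zero]
      exact ((ConcreteCategory.congr_hom ((FibreVanishQC.structMap π).mapPresheaf.naturality i.op) a)).trans he
    rw [h2, map_zero]

include hX' hU hU' hπU in
/-- The stalks of the cokernel of a normalization map compute the δ-invariants. -/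
theorem length_coker_stalk (x : X) :
    Module.length (X.presheaf.stalk x) ((cokernel (FibreVanishQC.structMap π)).presheaf.stalk x) =
      Curv2.deltaInv (X.presheaf.stalk x) := by
  classical
  haveI := isReduced_of_normal hX'
  obtain ⟨_, ⟨V : X.Opens, hV, rfl⟩, hxV, -⟩ := X.isBasis_affineOpens.exists_subset_of_mem_open (Set.mem_univ x) isOpen_univ
  let W := π ⁻¹ᵁ V
  have hW : IsAffineOpen W := hV.preimage π
  let R := Γ(X, V)
  let R' := Γ(X', W)
  letI : Algebra R R' := (π.app V).hom.toAlgebra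
  haveI : Module.Finite R R' := IsFinite.finite_app π V hV
  haveI : IsNoetherianRing R := IsLocallyNoetherian.component_noetherian ⟨V, hV⟩
  -- a nonzerodivisor whose basic open lies in `U`
  let Z : Set (PrimeSpectrum R) := hV.fromSpec ⁻¹' ((U : Set X)ᶜ)
  have hZ : IsClosed Z := U.2.isClosed_compl.preimage hV.fromSpec.continuous
  obtain ⟨I, hI⟩ := (PrimeSpectrum.isClosed_iff_zeroLocus_ideal Z).1 hZ
  obtain ⟨s, hsI, hs⟩ : ∃ s ∈ I, ∀ p ∈ minimalPrimes R, s ∉ p := by
    by_contra hne
    push Not at hne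
    have hfin := (⊥ : Ideal R).finite_minimalPrimes_of_isNoetherianRing R
    obtain ⟨P, hP, hPle⟩ := (Ideal.subset_union_prime (s := hfin.toFinset) (f := fun P => P) (I := I)
      ⊥ ⊥ fun P hP _ _ => (hfin.mem_toFinset.1 hP).1.1).1 fun a ha => by
        obtain ⟨η, hη, haη⟩ := hne a ha
        exact Set.mem_iUnion₂.2 ⟨η, Finset.mem_coe.2 (hfin.mem_toFinset.2 hη), haη⟩
    have hPm := hfin.mem_toFinset.1 hP
    let η : PrimeSpectrum R := ⟨P, hPm.1.1⟩
    have hηZ : η ∈ Z := hI.ge hPle
    -- minimal primes are generic in the open `V`, hence in `U`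
    let O : Set (PrimeSpectrum R) := (⋃ q ∈ (hfin.toFinset.erase P : Set (Ideal R)), PrimeSpectrum.zeroLocus (q : Set R))ᶜ
    have hO : IsOpen O := ((Finset.finite_toSet _).isClosed_biUnion fun q _ => PrimeSpectrum.isClosed_zeroLocus _).isOpen_compl
    have hηO : η ∈ O := fun h => by
      obtain ⟨q, hq, hqη⟩ := Set.mem_iUnion₂.1 h
      have hq' := Finset.mem_erase.1 hq
      exact hq'.1 (le_antisymm hqη (hPm.2 (hfin.mem_toFinset.1 hq'.2).1 hqη))
    obtain ⟨w, hwO, hwU⟩ := hU.inter_open_nonempty (hV.fromSpec '' O) (hV.fromSpec.isOpenEmbedding.isOpenMap O hO)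
      ⟨_, η, hηO, rfl⟩
    obtain ⟨w, hw, rfl⟩ := hwO
    have hηw : η ⤳ w := by
      obtain ⟨q, hq, hqw⟩ := Ideal.exists_minimalPrimes_le (bot_le : (⊥ : Ideal R) ≤ w.asIdeal)
      rw [← PrimeSpectrum.le_iff_specializes]
      have : q = P := by
        by_contra hne'
        exact hw (Set.mem_iUnion₂.2 ⟨q, Finset.mem_coe.2 (Finset.mem_erase.2 ⟨hne', hfin.mem_toFinset.2 hq⟩), hqw⟩)
      exact show P ≤ w.asIdeal from this ▸ hqw
    exact hηZ ((hηw.map hV.fromSpec.continuous).mem_open U.2 hwU)
  have hsR : s ∈ nonZeroDivisors R := by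
    haveI : _root_.IsReduced R := inferInstance
    exact RegLocLib.mem_nonZeroDivisors_of_forall_notMem hs
  let D := X.basicOpen s
  have hDV : D ≤ V := X.basicOpen_le s
  have hDU : D ≤ U := fun y hy => by
    by_contra hyU
    have hyV := hDV hy
    have hmem : hV.primeIdealOf ⟨y, hyV⟩ ∈ Z := by
      show hV.fromSpec _ ∈ (U : Set X)ᶜ
      rw [hV.fromSpec_primeIdealOf]; exact hyU
    rw [hI] at hmem
    have h1 : (hV.primeIdealOf ⟨y, hyV⟩) ∈ hV.fromSpec ⁻¹ᵁ X.basicOpen s := by
      show hV.fromSpec _ ∈ X.basicOpen s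
      rw [hV.fromSpec_primeIdealOf]; exact hy
    rw [hV.fromSpec_preimage_basicOpen] at h1
    exact h1 (hmem hsI)
  -- birationality
  letI algD : Algebra R Γ(X, D) := (X.presheaf.map (homOfLE hDV).op).hom.toAlgebra
  haveI : IsLocalization.Away s Γ(X, D) := hV.isLocalization_basicOpen s
  let s' : R' := π.app V s
  letI algD' : Algebra R' Γ(X', X'.basicOpen s') := (X'.presheaf.map (homOfLE (X'.basicOpen_le s')).op).hom.toAlgebra
  haveI : IsLocalization.Away s' Γ(X', X'.basicOpen s') := hW.isLocalization_basicOpen s'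
  have hpre : π ⁻¹ᵁ D = X'.basicOpen s' := Scheme.preimage_basicOpen π s
  haveI := hπU
  let ρ : Γ(X, D) →+* Γ(X', X'.basicOpen s') := (π.app D ≫ X'.presheaf.map (homOfLE hpre.ge).op).hom
  have hρ : Function.Bijective ρ := by
    haveI : IsIso (X'.presheaf.map (homOfLE hpre.ge).op) := by
      rw [Subsingleton.elim (homOfLE hpre.ge) (eqToHom hpre.symm), eqToHom_op, eqToHom_map]
      infer_instance
    exact (ConcreteCategory.bijective_of_isIso (X'.presheaf.map (homOfLE hpre.ge).op)).comp
      (FormalSys.app_bijective_of_le π hDU)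
  have hρR : ∀ a : R, ρ (algebraMap R Γ(X, D) a) = algebraMap R' Γ(X', X'.basicOpen s') (π.app V a) := fun a => by
    show (X.presheaf.map (homOfLE hDV).op ≫ π.app D ≫ X'.presheaf.map (homOfLE hpre.ge).op) a =
      (π.app V ≫ X'.presheaf.map (homOfLE (X'.basicOpen_le s')).op) a
    rw [π.naturality_assoc, ← Functor.map_comp]
    rfl
  have hs' : s' ∈ nonZeroDivisors R' := by
    refine mem_nonZeroDivisors_iff_right.2 fun t ht => ?_
    have hb : X'.basicOpen t = ⊥ := by
      rw [eq_bot_iff]
      intro y hy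
      exfalso
      have hyW := X'.basicOpen_le t hy
      obtain ⟨z, hzt, hzU⟩ := hU'.inter_open_nonempty _ (X'.basicOpen t).2 ⟨y, hy⟩
      have hzW := X'.basicOpen_le t hzt
      obtain ⟨q, hq, hqz⟩ : ∃ q ∈ minimalPrimes R, q ≤ (hV.primeIdealOf ⟨π z, hzW⟩).asIdeal :=
        Ideal.exists_minimalPrimes_le bot_le
      let η : X := hV.fromSpec ⟨q, hq.1.1⟩
      have hηz : η ⤳ π z := by
        have h := (((PrimeSpectrum.le_iff_specializes (⟨q, hq.1.1⟩ : PrimeSpectrum R) (hV.primeIdealOf ⟨π z, hzW⟩)).1 hqz)).map hV.fromSpec.continuous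
        rwa [hV.fromSpec_primeIdealOf] at h
      have hηU : η ∈ U := hηz.mem_open U.2 hzU
      obtain ⟨⟨w, hw⟩, hwη⟩ := (π ∣_ U).homeomorph.surjective ⟨η, hηU⟩
      have hπw : π w = η := by
        have := congrArg Subtype.val hwη
        rwa [Scheme.Hom.homeomorph_apply, morphismRestrict_base] at this
      have hwz : (⟨w, hw⟩ : (π ⁻¹ᵁ U).toScheme) ⤳ ⟨z, hzU⟩ := by
        refine (π ∣_ U).homeomorph.isInducing.specializes_iff.1 ?_
        refine (Topology.IsInducing.subtypeVal.specializes_iff).1 ?_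
        rw [show ((π ∣_ U).homeomorph ⟨w, hw⟩).1 = π w by rw [Scheme.Hom.homeomorph_apply, morphismRestrict_base]; rfl,
          show ((π ∣_ U).homeomorph ⟨z, hzU⟩).1 = π z by rw [Scheme.Hom.homeomorph_apply, morphismRestrict_base]; rfl, hπw]
        exact hηz
      have hwt : w ∈ X'.basicOpen t := (hwz.map continuous_subtype_val).mem_open (X'.basicOpen t).2 hzt
      have hws : w ∈ X'.basicOpen s' := by
        rw [← hpre]
        show π w ∈ D
        rw [hπw]
        have hqs : (⟨q, hq.1.1⟩ : PrimeSpectrum R) ∈ hV.fromSpec ⁻¹ᵁ X.basicOpen s := by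
          rw [hV.fromSpec_preimage_basicOpen]; exact hs q hq
        exact hqs
      have h1 : w ∈ X'.basicOpen (t * s') := by rw [Scheme.basicOpen_mul]; exact ⟨hwt, hws⟩
      rw [ht, Scheme.basicOpen_zero] at h1
      exact h1
    exact (basicOpen_eq_bot_iff t).1 hb
  have hbir : ∀ c : R', ∃ (j : ℕ) (a : R), algebraMap R R' s ^ j * c = algebraMap R R' a := fun c => by
    obtain ⟨d, hd⟩ := hρ.2 (algebraMap R' Γ(X', X'.basicOpen s') c)
    obtain ⟨⟨a, ⟨_, j, rfl⟩⟩, hja⟩ := IsLocalization.surj (Submonoid.powers s) d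
    have h1 := congrArg ρ hja
    rw [map_mul, hρR, hρR, hd, ← map_mul] at h1
    obtain ⟨⟨_, i, rfl⟩, hi⟩ := (IsLocalization.eq_iff_exists (Submonoid.powers s') Γ(X', X'.basicOpen s')).1 h1
    refine ⟨i + j, s ^ i * a, ?_⟩
    show (π.app V s) ^ (i + j) * c = π.app V (s ^ i * a)
    have hi' : s' ^ i * (c * π.app V (s ^ j)) = s' ^ i * π.app V a := hi
    simp only [map_mul, map_pow] at hi' ⊢
    rw [← hi', pow_add]
    ring
  have hinjR : Function.Injective (algebraMap R R') := FinBirLib.app_injective π U hU hπU V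
  -- localise
  let p := (hV.primeIdealOf ⟨x, hxV⟩).asIdeal
  let O := X.presheaf.stalk x
  letI algO : Algebra R O := TopCat.Presheaf.algebra_section_stalk X.presheaf ⟨x, hxV⟩
  haveI : IsLocalization.AtPrime O p := hV.isLocalization_stalk ⟨x, hxV⟩
  let MS := Algebra.algebraMapSubmonoid R' p.primeCompl
  let C := Localization MS
  have hle : p.primeCompl ≤ MS.comap (algebraMap R R') := fun y hy => ⟨y, hy, rfl⟩
  letI algOC : Algebra O C := (IsLocalization.map C (algebraMap R R') hle : O →+* C).toAlgebra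
  haveI : IsScalarTower R O C := .of_algebraMap_eq fun a => by
    show _ = IsLocalization.map C (algebraMap R R') _ (algebraMap R O a)
    rw [IsLocalization.map_eq]
    exact IsScalarTower.algebraMap_apply R R' C a
  haveI : Module.Finite O C := Module.Finite.of_isLocalization R R' (Rₚ := O) (Sₚ := C) p.primeCompl
  haveI : IsLocalizedModule p.primeCompl (IsScalarTower.toAlgHom R R' C).toLinearMap := inferInstance
  have hnor : ∀ n : Ideal C, ∀ [n.IsMaximal], IsDomain (Localization.AtPrime n) ∧ IsIntegrallyClosed (Localization.AtPrime n) := by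
    intro n _
    haveI := IsLocalization.isLocalization_isLocalization_atPrime_isLocalization MS (Localization.AtPrime n) n
    obtain ⟨hd, hi⟩ := normal_localization hX' hW (n.comap (algebraMap R' C))
    haveI := hd
    haveI := hi
    let e := (IsLocalization.algEquiv (n.comap (algebraMap R' C)).primeCompl (Localization.AtPrime (n.comap (algebraMap R' C)))
      (Localization.AtPrime n)).toRingEquiv
    exact ⟨e.symm.toMulEquiv.isDomain _, IsIntegrallyClosed.of_equiv e⟩
  have hsO : algebraMap R O s ∈ nonZeroDivisors O := IsLocalization.map_nonZeroDivisors_le p.primeCompl O ⟨s, hsR, rfl⟩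
  have hsC : algebraMap O C (algebraMap R O s) ∈ nonZeroDivisors C := by
    rw [← IsScalarTower.algebraMap_apply, IsScalarTower.algebraMap_apply R R' C]
    exact IsLocalization.map_nonZeroDivisors_le MS C ⟨s', hs', rfl⟩
  have hbirC : ∀ c : C, ∃ (j : ℕ) (a : O), algebraMap O C (algebraMap R O s) ^ j * c = algebraMap O C a := fun c => by
    obtain ⟨c, ⟨_, t, ht, rfl⟩, rfl⟩ := IsLocalization.exists_mk'_eq MS c
    obtain ⟨j, a, hja⟩ := hbir c
    refine ⟨j, IsLocalization.mk' O a (⟨t, ht⟩ : p.primeCompl), ?_⟩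
    rw [← IsScalarTower.algebraMap_apply, IsScalarTower.algebraMap_apply R R' C, ← map_pow, IsLocalization.mul_mk'_eq_mk'_of_mul,
      hja]
    exact (IsLocalization.map_mk' (M := p.primeCompl) (T := MS) hle a ⟨t, ht⟩).symm
  have hinjC : Function.Injective (algebraMap O C) := by
    refine (injective_iff_map_eq_zero _).2 fun o ho => ?_
    obtain ⟨a, t, rfl⟩ := IsLocalization.exists_mk'_eq p.primeCompl o
    rw [RingHom.algebraMap_toAlgebra, IsLocalization.map_mk', IsLocalization.mk'_eq_zero_iff] at ho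
    obtain ⟨⟨_, v, hv, rfl⟩, hva⟩ := ho
    rw [← map_mul] at hva
    rw [IsLocalization.mk'_eq_zero_iff]
    exact ⟨⟨v, hv⟩, hinjR (hva.trans (map_zero _).symm)⟩
  rw [← length_quot_eq_deltaInv O C hnor (algebraMap R O s) hsO hsC hbirC hinjC]
  -- identify the stalk of the pushforward
  let M := (Scheme.Modules.pushforward π).obj (Coh.structureModule X')
  haveI : Coh.IsQCoh (Coh.structureModule X') := inferInstance
  haveI : Coh.IsQCoh M := QCohLib.isQCoh_pushforward (Coh.structureModule X') π
  letI := Module.compHom (M.presheaf.stalk x) (X.presheaf.germ V x hxV).hom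
  haveI : IsScalarTower R O (M.presheaf.stalk x) := IsScalarTower.of_algebraMap_smul fun r z => rfl
  let g := FlatLocus.germL M V x hxV
  haveI := FlatLocus.isLocalizedModule_germL M hV x hxV
  let e0 : R' ≃ₗ[R] Γ(M, V) :=
    { toFun := fun c => c
      map_add' := fun _ _ => rfl
      map_smul' := fun r c => by
        show r • c = (π.app V r * c : R')
        rw [Algebra.smul_def]
        rfl
      invFun := fun c => c
      left_inv := fun _ => rfl
      right_inv := fun _ => rfl }
  haveI : IsLocalizedModule p.primeCompl (g ∘ₗ e0.toLinearMap) := IsLocalizedModule.of_linearEquiv_right _ g e0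
  let E := (IsLocalizedModule.linearEquiv p.primeCompl (g ∘ₗ e0.toLinearMap)
    (IsScalarTower.toAlgHom R R' C).toLinearMap).extendScalarsOfIsLocalization p.primeCompl O
  have hE1 : E (g (e0 1)) = 1 := by
    refine (IsLocalizedModule.linearEquiv_apply p.primeCompl (g ∘ₗ e0.toLinearMap) (IsScalarTower.toAlgHom R R' C).toLinearMap 1).trans ?_
    exact map_one (algebraMap R' C)
  let S := ShortComplex.mk (FibreVanishQC.structMap π) (cokernel.π (FibreVanishQC.structMap π)) (cokernel.condition _)
  haveI : Epi S.g := inferInstanceAs (Epi (cokernel.π (FibreVanishQC.structMap π)))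
  have hex := DCohLib.exact_stalkLin S (ShortComplex.exact_cokernel _) x
  have hsurj := (PullbackMod.epi_iff_stalk S.g).mp inferInstance x
  let f := PullbackMod.stalkLin (FibreVanishQC.structMap π) x
  have hrange : LinearMap.range f = Submodule.span O {g (e0 1)} := by
    let z₀ : (Coh.structureModule X).presheaf.stalk x := (Coh.structureModule X).presheaf.germ V x hxV (1 : Γ(X, V))
    have hz₀ : f z₀ = g (e0 1) :=
      (PullbackMod.stalkLin_germ _ x hxV _).trans (congrArg (M.presheaf.germ V x hxV) (map_one (π.app V).hom))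
    have hgen : ∀ z, ∃ r : O, r • z₀ = z := by
      intro z
      obtain ⟨V', hxV', t, rfl⟩ := TopCat.Presheaf.exists_germ_eq (Coh.structureModule X).presheaf z
      refine ⟨X.presheaf.germ (V' ⊓ V) x ⟨hxV', hxV⟩ (X.presheaf.map (homOfLE inf_le_left).op t), ?_⟩
      rw [show z₀ = (Coh.structureModule X).presheaf.germ (V' ⊓ V) x ⟨hxV', hxV⟩ ((Coh.structureModule X).presheaf.map (homOfLE inf_le_right).op (1 : Γ(X, V))) from
        ((Coh.structureModule X).presheaf.germ_res_apply (homOfLE inf_le_right) x ⟨hxV', hxV⟩ _).symm]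
      refine (PresheafOfModules.germ_smul (R := X.presheaf) (Coh.structureModule X).val x (V' ⊓ V) ⟨hxV', hxV⟩ _ _).symm.trans ?_
      refine Eq.trans ?_ ((Coh.structureModule X).presheaf.germ_res_apply (homOfLE inf_le_left) x ⟨hxV', hxV⟩ t)
      refine congrArg ((Coh.structureModule X).presheaf.germ (V' ⊓ V) x ⟨hxV', hxV⟩) ?_
      exact (congrArg (fun w : Γ(X, V' ⊓ V) => (X.presheaf.map (homOfLE inf_le_left).op t : Γ(X, V' ⊓ V)) * w) (map_one (X.presheaf.map (homOfLE inf_le_right).op).hom)).trans (mul_one _)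
    refine le_antisymm ?_ ((Submodule.span_singleton_le_iff_mem _ _).2 ⟨z₀, hz₀⟩)
    rintro _ ⟨z, rfl⟩
    obtain ⟨r, rfl⟩ := hgen z
    rw [map_smul, hz₀]
    exact Submodule.smul_mem _ _ (Submodule.mem_span_singleton_self _)
  refine ((((Submodule.quotEquivOfEq _ _ (LinearMap.exact_iff.1 hex)).symm.trans
    (LinearMap.quotKerEquivOfSurjective _ hsurj)).symm).trans (Submodule.Quotient.equiv _ _ E ?_)).length_eq
  show Submodule.map (E : M.presheaf.stalk x →ₗ[O] C) (LinearMap.range f) = _
  rw [hrange, Submodule.map_span, Set.image_singleton]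
  erw [hE1]
  rw [← LinearMap.range_toSpanSingleton]
  congr 1
  exact LinearMap.ext_ring ((LinearMap.toSpanSingleton_apply_one _ _ _).trans (map_one (algebraMap O C)).symm)

end Groth.Agent.DeltaBC
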