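import Groth.Agent.DeltaBCLib.Main

/-!
# A finite birational normal algebra computes the δ-invariant
-/

set_option autoImplicit false
set_option linter.style.haveILetI false
set_option backward.isDefEq.respectTransparency false

universe u

noncomputable section

namespace Groth.Agent.DeltaBC

/-- A finite birational algebra with normal local rings is the normalization, so it computes the δ-invariant. -/
theorem length_quot_eq_deltaInv (O : Type u) [CommRing O] (C : Type u) [CommRing C] [Algebra O C]
    [Module.Finite O C]
    (hnor : ∀ n : Ideal C, ∀ [n.IsMaximal], IsDomain (Localization.AtPrime n) ∧ IsIntegrallyClosed (Localization.AtPrime n))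
    (s : O) (hs : s ∈ nonZeroDivisors O) (hsC : algebraMap O C s ∈ nonZeroDivisors C)
    (hbir : ∀ c : C, ∃ (j : ℕ) (a : O), algebraMap O C s ^ j * c = algebraMap O C a) (hinj : Function.Injective (algebraMap O C)) :
    Module.length O (C ⧸ LinearMap.range (Algebra.linearMap O C)) = Curv2.deltaInv O := by
  let Q := FractionRing O
  have hu : ∀ t : nonZeroDivisors O, IsUnit (algebraMap O Q t) := fun t => IsLocalization.map_units Q t
  choose j a hja using hbir
  let sp : C → nonZeroDivisors O := fun c => ⟨s ^ j c, pow_mem hs _⟩
  let f₀ : C → Q := fun c => IsLocalization.mk' Q (a c) (sp c)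
  have hkey : ∀ (c : C) (j' : ℕ) (a' : O), algebraMap O C s ^ j' * c = algebraMap O C a' →
      f₀ c * algebraMap O Q (s ^ j') = algebraMap O Q a' := fun c j' a' h => by
    refine (hu (sp c)).mul_right_cancel ?_
    rw [mul_right_comm, IsLocalization.mk'_spec, ← map_mul, ← map_mul]
    refine congrArg _ (hinj ?_)
    show _ = algebraMap O C (a' * s ^ j c)
    rw [map_mul, map_mul, map_pow, map_pow, ← h, ← hja]
    ring
  have hpow : ∀ m : ℕ, IsUnit (algebraMap O Q (s ^ m)) := fun m => hu ⟨s ^ m, pow_mem hs m⟩
  let f : C →ₐ[O] Q :=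
    { toFun := f₀
      map_one' := (hpow 0).mul_right_cancel (by rw [hkey 1 0 1 (by simp), pow_zero, map_one, one_mul])
      map_zero' := (hpow 0).mul_right_cancel (by rw [hkey 0 0 0 (by simp), map_zero, zero_mul])
      map_mul' := fun x y => (hpow (j x + j y)).mul_right_cancel (by
        rw [hkey (x * y) (j x + j y) (a x * a y) (by rw [map_mul, pow_add, ← hja, ← hja]; ring), pow_add, map_mul, map_mul,
          ← hkey x (j x) (a x) (hja x), ← hkey y (j y) (a y) (hja y)]
        ring)
      map_add' := fun x y => (hpow (j x + j y)).mul_right_cancel (by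
        rw [hkey (x + y) (j x + j y) (a x * s ^ j y + a y * s ^ j x)
          (by rw [map_add, map_mul, map_mul, map_pow, map_pow, ← hja, ← hja, pow_add]; ring), pow_add, map_mul, map_add,
          map_mul, map_mul, ← hkey x (j x) (a x) (hja x), ← hkey y (j y) (a y) (hja y)]
        ring)
      commutes' := fun r => (hpow 0).mul_right_cancel (by
        rw [hkey (algebraMap O C r) 0 r (by simp), pow_zero, map_one, mul_one]) }
  have hfinj : Function.Injective f := (injective_iff_map_eq_zero f).2 fun c hc => by
    have h := hkey c (j c) (a c) (hja c)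
    rw [show f₀ c = f c from rfl, hc, zero_mul] at h
    have ha : a c = 0 := IsFractionRing.injective O Q (h.symm.trans (map_zero _).symm)
    exact (mem_nonZeroDivisors_iff.1 (pow_mem hsC (j c))).1 c (by rw [hja, ha, map_zero])
  haveI : Algebra.IsIntegral O C := Algebra.IsIntegral.of_finite O C
  let ω : C →ₐ[O] Nor O := f.codRestrict _ fun c => IsIntegral.map f (Algebra.IsIntegral.isIntegral c)
  have hωinj : Function.Injective ω := fun x y h => hfinj (congrArg Subtype.val h :)
  have hωsurj : Function.Surjective ω := by
    intro y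
    let I : Ideal C :=
      { carrier := {d | ∃ c, f d * (y : Q) = f c}
        add_mem' := by
          rintro d d' ⟨c, hc⟩ ⟨c', hc'⟩
          exact ⟨c + c', by rw [map_add, add_mul, hc, hc', ← map_add]⟩
        zero_mem' := ⟨0, by simp⟩
        smul_mem' := by
          rintro r d ⟨c, hc⟩
          exact ⟨r * c, by rw [smul_eq_mul, map_mul, mul_assoc, hc, ← map_mul]⟩ }
    suffices hI : (1 : C) ∈ I by
      obtain ⟨c, hc⟩ := hI
      exact ⟨c, Subtype.ext (by rw [map_one, one_mul] at hc; exact hc.symm)⟩
    by_contra hI
    obtain ⟨n, hn, hIn⟩ := Ideal.exists_le_maximal I fun h => hI (h ▸ trivial)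
    obtain ⟨hd, hic⟩ := hnor n
    let Cn := Localization.AtPrime n
    haveI : IsDomain Cn := hd
    haveI : IsIntegrallyClosed Cn := hic
    let K := FractionRing Cn
    have hne : ∀ t : nonZeroDivisors O, IsUnit (Algebra.ofId O K (t : O)) := fun t => by
      refine IsUnit.mk0 _ fun h0 => ?_
      change algebraMap O K (t : O) = 0 at h0
      rw [IsScalarTower.algebraMap_apply O Cn K, map_eq_zero_iff _ (IsFractionRing.injective Cn K),
        IsScalarTower.algebraMap_apply O C Cn, IsLocalization.map_eq_zero_iff n.primeCompl] at h0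
      obtain ⟨v, hv⟩ := h0
      refine v.2 ?_
      have h1 := congrArg f hv
      rw [map_mul, AlgHom.commutes, map_zero] at h1
      have h2 : f (v : C) = 0 := (hu t).mul_left_eq_zero.1 h1
      rw [hfinj (h2.trans (map_zero _).symm)]
      exact n.zero_mem
    let θ : Q →ₐ[O] K := IsLocalization.liftAlgHom (M := nonZeroDivisors O) hne
    have hint : IsIntegral Cn (θ y) := (IsIntegral.map θ y.2).tower_top
    obtain ⟨z, hz⟩ := (isIntegrallyClosed_iff K).1 hic hint
    obtain ⟨c, u, rfl⟩ := IsLocalization.exists_mk'_eq n.primeCompl z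
    obtain ⟨⟨b, t⟩, hbt⟩ := IsLocalization.surj (nonZeroDivisors O) (y : Q)
    have h3 : algebraMap C Cn (algebraMap O C b * (u : C)) = algebraMap C Cn (algebraMap O C t * c) := by
      apply IsFractionRing.injective Cn K
      have h4 := congrArg θ hbt
      rw [map_mul, AlgHom.commutes, AlgHom.commutes] at h4
      rw [map_mul, map_mul, map_mul, map_mul, ← IsScalarTower.algebraMap_apply O C Cn,
        ← IsScalarTower.algebraMap_apply O C Cn, ← IsScalarTower.algebraMap_apply O Cn K,
        ← IsScalarTower.algebraMap_apply O Cn K, ← h4, ← hz,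
        ← IsLocalization.mk'_spec Cn c u, map_mul]
      ring
    obtain ⟨v, hv⟩ := (IsLocalization.eq_iff_exists n.primeCompl Cn).1 h3
    have hmem : (v : C) * u ∈ I := by
      refine ⟨v * c, (hu t).mul_right_cancel ?_⟩
      have h5 := congrArg f hv
      rw [map_mul, map_mul, map_mul, map_mul] at h5
      erw [AlgHom.commutes, AlgHom.commutes] at h5
      rw [map_mul, map_mul, mul_assoc, hbt]
      calc f v * f u * algebraMap O Q b = f v * (algebraMap O Q b * f u) := by ring
        _ = _ := h5
        _ = _ := by ring
    exact ((n.primeCompl.mul_mem v.2 u.2) : (v : C) * u ∉ n) (hIn hmem)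
  let e := LinearEquiv.ofBijective ω.toLinearMap ⟨hωinj, hωsurj⟩
  have h : (LinearMap.range (Algebra.linearMap O C)).map e.toLinearMap = LinearMap.range (Algebra.linearMap O (Nor O)) := by
    rw [← LinearMap.range_comp]
    congr 1
    exact LinearMap.ext fun b => ω.commutes b
  exact (Submodule.Quotient.equiv _ _ e h).length_eq

end Groth.Agent.DeltaBC
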