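import Groth.Agent.DeltaBCLib.Genus
import Groth.Agent.HilbObsLib.Ideal
import Groth.Agent.DevLib.Sub

/-!
# The ideal sheaf of a separating node
-/

set_option autoImplicit false
set_option linter.style.haveILetI false
set_option backward.isDefEq.respectTransparency false

universe u

open CategoryTheory CategoryTheory.Limits AlgebraicGeometry TopologicalSpace IsLocalRing
open Groth.Agent.PullbackMod Groth.Agent.ParaFLib

noncomputable section

namespace Groth.Agent.DeltaBC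

/-- Splitting of the maximal ideal when the δ-invariant is one. -/
theorem exists_mul_eq_of_delta_one (A : Type u) [CommRing A] [IsLocalRing A] (hδ : Curv2.deltaInv A = 1)
    {a b : A} (hab : a * b = 0) (hs : a + b ∈ nonZeroDivisors A) {z : A} (hz : z ∈ maximalIdeal A) :
    ∃ w : A, w * (a + b) = z * a := by
  let Q := LinearMap.range (Algebra.linearMap A (Nor A))
  haveI : IsSimpleModule A (Nor A ⧸ Q) := Module.length_eq_one_iff.1 hδ
  let s : nonZeroDivisors A := ⟨a + b, hs⟩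
  let e : FractionRing A := IsLocalization.mk' _ a s
  have he : e * algebraMap A _ (a + b) = algebraMap A _ a := IsLocalization.mk'_spec _ a s
  have hu : IsUnit (algebraMap A (FractionRing A) (a + b)) := IsLocalization.map_units _ s
  have hidem : e * e = e := by
    apply (hu.mul hu).mul_right_cancel
    calc e * e * (algebraMap A _ (a + b) * algebraMap A _ (a + b))
        = (e * algebraMap A _ (a + b)) * (e * algebraMap A _ (a + b)) := by ring
      _ = algebraMap A _ a * algebraMap A _ (a + b) := by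
          rw [he, ← map_mul, ← map_mul, mul_add, hab, add_zero]
      _ = e * (algebraMap A _ (a + b) * algebraMap A _ (a + b)) := by rw [← mul_assoc, he]
  have hint : IsIntegral A e := ⟨Polynomial.X ^ 2 - Polynomial.X, Polynomial.monic_X_pow_sub (by simp), by
    simp [pow_two, hidem]⟩
  let ē : Nor A := ⟨e, hint⟩
  have hk : z • Submodule.Quotient.mk ē = (0 : Nor A ⧸ Q) := by
    by_cases h0 : Submodule.Quotient.mk ē = (0 : Nor A ⧸ Q)
    · rw [h0, smul_zero]
    obtain ⟨I, hI, ⟨φ⟩⟩ := (isSimpleModule_iff_quot_maximal (R := A) (M := Nor A ⧸ Q)).1 inferInstance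
    obtain rfl := IsLocalRing.eq_maximalIdeal hI
    apply φ.injective
    rw [map_smul, map_zero]
    obtain ⟨r, hr⟩ := Ideal.Quotient.mk_surjective (φ (Submodule.Quotient.mk ē))
    rw [← hr, Algebra.smul_def, Ideal.Quotient.algebraMap_eq, Ideal.Quotient.eq_zero_iff_mem.2 hz, zero_mul]
  rw [← Submodule.Quotient.mk_smul, Submodule.Quotient.mk_eq_zero] at hk
  obtain ⟨w, hw⟩ := hk
  refine ⟨w, IsFractionRing.injective A (FractionRing A) ?_⟩
  have hw' : algebraMap A (FractionRing A) w = z • e := congrArg Subtype.val hw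
  rw [map_mul, hw', Algebra.smul_def, mul_assoc, he, map_mul]

variable {X : Scheme.{u}} [IsReduced X] {ZA ZB : Closeds X}

theorem eq_zero_of_mem_both (hun : (ZA : Set X) ∪ ZB = Set.univ) (x : X) {r : X.presheaf.stalk x}
    (hA : r ∈ IntMult.stalkIdeal (Scheme.IdealSheafData.vanishingIdeal ZA) x)
    (hB : r ∈ IntMult.stalkIdeal (Scheme.IdealSheafData.vanishingIdeal ZB) x) : r = 0 := by
  obtain ⟨_, ⟨V : X.Opens, (hV : IsAffineOpen V), rfl⟩, hxV, -⟩ := X.isBasis_affineOpens.exists_subset_of_mem_open (Set.mem_univ x) isOpen_univ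
  letI := TopCat.Presheaf.algebra_section_stalk X.presheaf (⟨x, hxV⟩ : V)
  haveI := hV.isLocalization_stalk ⟨x, hxV⟩
  let P := (hV.primeIdealOf ⟨x, hxV⟩).asIdeal
  rw [IdealStalkLib.stalkIdeal_eq _ ⟨V, hV⟩ x hxV, Scheme.IdealSheafData.vanishingIdeal_ideal] at hA hB
  obtain ⟨⟨⟨i, hi⟩, t⟩, h1⟩ := (IsLocalization.mem_map_algebraMap_iff P.primeCompl (X.presheaf.stalk x)).1 hA
  obtain ⟨⟨⟨j, hj⟩, t'⟩, h2⟩ := (IsLocalization.mem_map_algebraMap_iff P.primeCompl (X.presheaf.stalk x)).1 hB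
  have h3 : algebraMap Γ(X, V) (X.presheaf.stalk x) (i * t'.1) = algebraMap Γ(X, V) (X.presheaf.stalk x) (j * t.1) := by
    rw [map_mul, map_mul, ← h1, ← h2]; ring
  obtain ⟨c, hc⟩ := (IsLocalization.eq_iff_exists P.primeCompl (X.presheaf.stalk x)).1 h3
  have h4 : c.1 * (i * t'.1) = 0 := by
    refine IsReduced.eq_zero _ (nilpotent_iff_mem_prime.2 fun q hq => ?_)
    rcases (Set.ext_iff.1 hun (hV.fromSpec ⟨q, hq⟩)).2 trivial with h | h
    · exact q.mul_mem_left _ (q.mul_mem_right _ ((PrimeSpectrum.mem_vanishingIdeal _ _).1 hi ⟨q, hq⟩ h))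
    · rw [hc]
      exact q.mul_mem_left _ (q.mul_mem_right _ ((PrimeSpectrum.mem_vanishingIdeal _ _).1 hj ⟨q, hq⟩ h))
  have h5 : r * algebraMap Γ(X, V) (X.presheaf.stalk x) (t.1 * t'.1 * c.1) = 0 := by
    rw [map_mul, map_mul, ← mul_assoc, ← mul_assoc, h1, ← map_mul, ← map_mul, mul_comm (i * t'.1), h4, map_zero]
  have hu := IsLocalization.map_units (X.presheaf.stalk x) (t * t' * c)
  exact hu.mul_left_eq_zero.1 h5

/-- Decomposition of the maximal ideal at the node. -/
theorem exists_split (hun : (ZA : Set X) ∪ ZB = Set.univ) [IsLocallyNoetherian X] {x : X}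
    (hmin : ∀ η : X, (∀ w : X, w ⤳ η → w = η) → (η ∈ ZA ↔ η ∉ ZB))
    (hA : (ZA : Set X) = closure ((ZB : Set X)ᶜ)) (hB : (ZB : Set X) = closure ((ZA : Set X)ᶜ))
    (hδ : Curv2.deltaInv (X.presheaf.stalk x) = 1) {z : X.presheaf.stalk x} (hz : z ∈ maximalIdeal (X.presheaf.stalk x)) :
    ∃ u v, u ∈ IntMult.stalkIdeal (Scheme.IdealSheafData.vanishingIdeal ZA) x ∧
      v ∈ IntMult.stalkIdeal (Scheme.IdealSheafData.vanishingIdeal ZB) x ∧ u + v = z := by
  obtain ⟨_, ⟨V : X.Opens, (hV : IsAffineOpen V), rfl⟩, hxV, -⟩ := X.isBasis_affineOpens.exists_subset_of_mem_open (Set.mem_univ x) isOpen_univ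
  letI := TopCat.Presheaf.algebra_section_stalk X.presheaf (⟨x, hxV⟩ : V)
  haveI := hV.isLocalization_stalk ⟨x, hxV⟩
  haveI : IsNoetherianRing Γ(X, V) := IsLocallyNoetherian.component_noetherian ⟨V, hV⟩
  let P := (hV.primeIdealOf ⟨x, hxV⟩).asIdeal
  let O := X.presheaf.stalk x
  let IA := PrimeSpectrum.vanishingIdeal (hV.fromSpec ⁻¹' (ZA : Set X))
  let IB := PrimeSpectrum.vanishingIdeal (hV.fromSpec ⁻¹' (ZB : Set X))
  -- minimal primes are generic points of exactly one side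
  have hgen : ∀ q : PrimeSpectrum Γ(X, V), q.asIdeal ∈ minimalPrimes Γ(X, V) →
      (hV.fromSpec q ∈ ZA ↔ hV.fromSpec q ∉ ZB) := fun q hq => by
    refine hmin _ fun w hw => ?_
    obtain ⟨p, rfl⟩ : w ∈ Set.range hV.fromSpec := by
      rw [hV.range_fromSpec]
      refine hw.mem_open V.2 ?_
      show _ ∈ (V : Set X)
      rw [← hV.range_fromSpec]; exact ⟨q, rfl⟩
    have h1 := (PrimeSpectrum.le_iff_specializes p q).2 (hV.fromSpec.isOpenEmbedding.isInducing.specializes_iff.1 hw)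
    exact congrArg hV.fromSpec (show @Eq (PrimeSpectrum Γ(X, V)) p q from PrimeSpectrum.ext (le_antisymm h1 (hq.2 ⟨p.isPrime, bot_le⟩ h1)))
  -- a nonzerodivisor in the sum of the two ideals
  obtain ⟨a, b, ha, hb, hsmin⟩ : ∃ a b, a ∈ IA ∧ b ∈ IB ∧ ∀ q ∈ minimalPrimes Γ(X, V), a + b ∉ q := by
    by_contra hne
    push Not at hne
    have hfin := (⊥ : Ideal Γ(X, V)).finite_minimalPrimes_of_isNoetherianRing Γ(X, V)
    obtain ⟨q, hq, hqle⟩ := (Ideal.subset_union_prime (s := hfin.toFinset) (f := fun q => q) (I := IA ⊔ IB)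
      ⊥ ⊥ fun q hq _ _ => (hfin.mem_toFinset.1 hq).1.1).1 fun c hc => by
        obtain ⟨a, ha, b, hb, rfl⟩ := Submodule.mem_sup.1 hc
        obtain ⟨q, hq, hcq⟩ := hne a b ha hb
        exact Set.mem_iUnion₂.2 ⟨q, Finset.mem_coe.2 (hfin.mem_toFinset.2 hq), hcq⟩
    have hqm := hfin.mem_toFinset.1 hq
    let η : PrimeSpectrum Γ(X, V) := ⟨q, hqm.1.1⟩
    have key : ∀ Z : Closeds X, PrimeSpectrum.vanishingIdeal (hV.fromSpec ⁻¹' (Z : Set X)) ≤ q → hV.fromSpec η ∈ Z := by
      intro Z hle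
      have hcl : IsClosed (hV.fromSpec ⁻¹' (Z : Set X)) := Z.isClosed.preimage hV.fromSpec.continuous
      have h2 : η ∈ PrimeSpectrum.zeroLocus (PrimeSpectrum.vanishingIdeal (hV.fromSpec ⁻¹' (Z : Set X)) : Set Γ(X, V)) := hle
      rw [PrimeSpectrum.zeroLocus_vanishingIdeal_eq_closure, hcl.closure_eq] at h2
      exact h2
    exact (hgen η hqm).1 (key ZA (le_sup_left.trans hqle)) (key ZB (le_sup_right.trans hqle))
  -- saturation
  have hsat : ∀ Z Z' : Closeds X, (Z : Set X) = closure ((Z' : Set X)ᶜ) → ∀ r : Γ(X, V),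
      r * (a + b) ∈ PrimeSpectrum.vanishingIdeal (hV.fromSpec ⁻¹' (Z : Set X)) →
      r ∈ PrimeSpectrum.vanishingIdeal (hV.fromSpec ⁻¹' (Z : Set X)) := by
    intro Z Z' hZ r hr
    rw [hZ]
    erw [hV.fromSpec.isOpenEmbedding.isOpenMap.preimage_closure_eq_closure_preimage hV.fromSpec.continuous,
      PrimeSpectrum.vanishingIdeal_closure, PrimeSpectrum.mem_vanishingIdeal]
    intro p hp
    obtain ⟨q, hq, hqp⟩ := Ideal.exists_minimalPrimes_le (bot_le : (⊥ : Ideal Γ(X, V)) ≤ p.asIdeal)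
    have hqZ' : hV.fromSpec ⟨q, hq.1.1⟩ ∈ (Z' : Set X)ᶜ :=
      (((PrimeSpectrum.le_iff_specializes (⟨q, hq.1.1⟩ : PrimeSpectrum Γ(X, V)) p).1 hqp).map hV.fromSpec.continuous).mem_open
        Z'.isClosed.isOpen_compl hp
    have hqZ : hV.fromSpec ⟨q, hq.1.1⟩ ∈ Z := hZ.ge (subset_closure hqZ')
    exact hqp ((hq.1.1.mem_or_mem ((PrimeSpectrum.mem_vanishingIdeal _ _).1 hr _ hqZ)).resolve_right (hsmin q hq))
  have hsR : a + b ∈ nonZeroDivisors Γ(X, V) := RegLocLib.mem_nonZeroDivisors_of_forall_notMem hsmin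
  let φ := algebraMap Γ(X, V) O
  have hsO : φ a + φ b ∈ nonZeroDivisors O := by
    rw [← map_add]; exact IsLocalization.map_nonZeroDivisors_le P.primeCompl O ⟨_, hsR, rfl⟩
  have hA' : ∀ i ∈ IA, φ i ∈ IntMult.stalkIdeal (Scheme.IdealSheafData.vanishingIdeal ZA) x := fun i hi => by
    rw [IdealStalkLib.stalkIdeal_eq _ ⟨V, hV⟩ x hxV, Scheme.IdealSheafData.vanishingIdeal_ideal]
    exact Ideal.mem_map_of_mem _ hi
  have hB' : ∀ i ∈ IB, φ i ∈ IntMult.stalkIdeal (Scheme.IdealSheafData.vanishingIdeal ZB) x := fun i hi => by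
    rw [IdealStalkLib.stalkIdeal_eq _ ⟨V, hV⟩ x hxV, Scheme.IdealSheafData.vanishingIdeal_ideal]
    exact Ideal.mem_map_of_mem _ hi
  have hab : φ a * φ b = 0 := eq_zero_of_mem_both hun x (Ideal.mul_mem_right _ _ (hA' a ha)) (Ideal.mul_mem_left _ _ (hB' b hb))
  obtain ⟨w, hw⟩ := exists_mul_eq_of_delta_one O hδ hab hsO hz
  have hsat' : ∀ Z Z' : Closeds X, (Z : Set X) = closure ((Z' : Set X)ᶜ) → ∀ o : O,
      o * φ (a + b) ∈ IntMult.stalkIdeal (Scheme.IdealSheafData.vanishingIdeal Z) x →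
      o ∈ IntMult.stalkIdeal (Scheme.IdealSheafData.vanishingIdeal Z) x := by
    intro Z Z' hZ o ho
    rw [IdealStalkLib.stalkIdeal_eq _ ⟨V, hV⟩ x hxV, Scheme.IdealSheafData.vanishingIdeal_ideal] at ho ⊢
    obtain ⟨r, t, rfl⟩ := IsLocalization.exists_mk'_eq P.primeCompl o
    obtain ⟨⟨⟨i, hi⟩, t'⟩, h1⟩ := (IsLocalization.mem_map_algebraMap_iff P.primeCompl O).1 ho
    have h2 : φ (r * (a + b) * t'.1) = φ (i * t.1) := by
      simp only [φ, map_mul]
      rw [← h1, ← IsLocalization.mk'_spec O r t]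
      ring
    obtain ⟨c, hc⟩ := (IsLocalization.eq_iff_exists P.primeCompl O).1 h2
    have h3 : c.1 * r * t'.1 ∈ PrimeSpectrum.vanishingIdeal (hV.fromSpec ⁻¹' (Z : Set X)) := by
      refine hsat Z Z' hZ _ ?_
      rw [show c.1 * r * t'.1 * (a + b) = c.1 * (r * (a + b) * t'.1) by ring, hc]
      exact Ideal.mul_mem_left _ _ (Ideal.mul_mem_right _ _ hi)
    refine (IsLocalization.mem_map_algebraMap_iff P.primeCompl O).2 ⟨⟨⟨_, h3⟩, c * t * t'⟩, ?_⟩
    simp only [Submonoid.coe_mul, map_mul]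
    rw [← IsLocalization.mk'_spec O r t]
    ring
  refine ⟨w, z - w, hsat' ZA ZB hA w ?_, hsat' ZB ZA hB (z - w) ?_, by ring⟩
  · rw [map_add, hw]; exact Ideal.mul_mem_left _ _ (hA' a ha)
  · rw [map_add, sub_mul, hw, mul_add, add_sub_cancel_left]; exact Ideal.mul_mem_left _ _ (hB' b hb)

/-- The ideal sheaf of a separating double point is decomposable. -/
theorem exists_idempotent [IsLocallyNoetherian X] (P : X) (hP : IsClosed ({P} : Set X))
    (hPmin : ∀ η : X, (∀ w : X, w ⤳ η → w = η) → η ≠ P)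
    (hun : (ZA : Set X) ∪ ZB = Set.univ) (hint : (ZA : Set X) ∩ ZB = {P})
    (hA : (ZA : Set X) = closure ((ZB : Set X)ᶜ)) (hB : (ZB : Set X) = closure ((ZA : Set X)ᶜ))
    (hneA : (ZA : Set X) ≠ Set.univ) (hneB : (ZB : Set X) ≠ Set.univ)
    (hδ : Curv2.deltaInv (X.presheaf.stalk P) = 1) :
    ∃ e : ClSub.idealMod (Scheme.IdealSheafData.vanishingIdeal ⟨{P}, hP⟩) ⟶ ClSub.idealMod (Scheme.IdealSheafData.vanishingIdeal ⟨{P}, hP⟩),
      e ≫ e = e ∧ e ≠ 0 ∧ e ≠ 𝟙 _ := by
  let IA := Scheme.IdealSheafData.vanishingIdeal ZA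
  let IB := Scheme.IdealSheafData.vanishingIdeal ZB
  let IP := Scheme.IdealSheafData.vanishingIdeal (⟨{P}, hP⟩ : Closeds X)
  have hle : ∀ Z : Closeds X, P ∈ Z → ∀ y, IntMult.stalkIdeal (Scheme.IdealSheafData.vanishingIdeal Z) y ≤ IntMult.stalkIdeal IP y := by
    intro Z hPZ y
    have hZ : Scheme.IdealSheafData.vanishingIdeal Z ≤ IP :=
      Scheme.IdealSheafData.vanishingIdeal_antimono (fun w hw => by rw [show w = P from hw]; exact hPZ)
    obtain ⟨_, ⟨V : X.Opens, (hV : IsAffineOpen V), rfl⟩, hyV, -⟩ := X.isBasis_affineOpens.exists_subset_of_mem_open (Set.mem_univ y) isOpen_univ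
    rw [IdealStalkLib.stalkIdeal_eq _ ⟨V, hV⟩ y hyV, IdealStalkLib.stalkIdeal_eq _ ⟨V, hV⟩ y hyV]
    exact Ideal.map_mono (hZ ⟨V, hV⟩)
  have hPA : P ∈ ZA := (hint.ge rfl).1
  have hPB : P ∈ ZB := (hint.ge rfl).2
  haveI : ∀ J : X.IdealSheafData, Mono (ClSub.idealModι J) := fun J => inferInstanceAs (Mono (kernel.ι _))
  have lift : ∀ Z : Closeds X, P ∈ Z → ClSub.idealModι (Scheme.IdealSheafData.vanishingIdeal Z) ≫ ClSub.toSubscheme IP = 0 := by
    intro Z hPZ
    refine hom_ext_stalk fun y => LinearMap.ext fun n => ?_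
    rw [stalkLin_comp, DevLib.stalkLin_zero, LinearMap.comp_apply, LinearMap.zero_apply]
    obtain ⟨r, hr⟩ := (bijective_oneG y).2 (stalkLin (ClSub.idealModι (Scheme.IdealSheafData.vanishingIdeal Z)) y n)
    obtain ⟨n', hn'⟩ := (HilbObsLib.mem_range_idealModι IP y r).2 (hle Z hPZ y ((HilbObsLib.mem_range_idealModι _ y r).1 ⟨n, hr.symm⟩))
    rw [← hr]; dsimp only; rw [show r • oneG y = stalkLin (ClSub.idealModι IP) y n' from hn'.symm, ← LinearMap.comp_apply, ← stalkLin_comp,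
      show ClSub.idealModι IP ≫ ClSub.toSubscheme IP = 0 from kernel.condition _, DevLib.stalkLin_zero, LinearMap.zero_apply]
  let jA : ClSub.idealMod IA ⟶ ClSub.idealMod IP := kernel.lift _ (ClSub.idealModι IA) (lift ZA hPA)
  let jB : ClSub.idealMod IB ⟶ ClSub.idealMod IP := kernel.lift _ (ClSub.idealModι IB) (lift ZB hPB)
  have hjA : jA ≫ ClSub.idealModι IP = ClSub.idealModι IA := kernel.lift_ι _ _ _
  have hjB : jB ≫ ClSub.idealModι IP = ClSub.idealModι IB := kernel.lift_ι _ _ _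
  let ψ : ClSub.idealMod IA ⊞ ClSub.idealMod IB ⟶ ClSub.idealMod IP := biprod.desc jA jB
  have hl : ∀ (y : X) (c : (ClSub.idealMod IA).presheaf.stalk y),
      stalkLin (ClSub.idealModι IP) y (stalkLin ψ y (stalkLin (biprod.inl : _ ⟶ ClSub.idealMod IA ⊞ ClSub.idealMod IB) y c)) =
        stalkLin (ClSub.idealModι IA) y c := fun y c => by
    rw [← hjA, show jA = (biprod.inl : _ ⟶ ClSub.idealMod IA ⊞ ClSub.idealMod IB) ≫ ψ from (biprod.inl_desc jA jB).symm,
      stalkLin_comp, stalkLin_comp, LinearMap.comp_apply, LinearMap.comp_apply]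
  have hr2 : ∀ (y : X) (c : (ClSub.idealMod IB).presheaf.stalk y),
      stalkLin (ClSub.idealModι IP) y (stalkLin ψ y (stalkLin (biprod.inr : _ ⟶ ClSub.idealMod IA ⊞ ClSub.idealMod IB) y c)) =
        stalkLin (ClSub.idealModι IB) y c := fun y c => by
    rw [← hjB, show jB = (biprod.inr : _ ⟶ ClSub.idealMod IA ⊞ ClSub.idealMod IB) ≫ ψ from (biprod.inr_desc jA jB).symm,
      stalkLin_comp, stalkLin_comp, LinearMap.comp_apply, LinearMap.comp_apply]
  haveI : IsIso ψ := by
    refine (isIso_iff_stalk ψ).2 fun y => ⟨(injective_iff_map_eq_zero _).2 fun m hm => ?_, fun n => ?_⟩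
    · let na := stalkLin (biprod.fst : ClSub.idealMod IA ⊞ ClSub.idealMod IB ⟶ _) y m
      let nb := stalkLin (biprod.snd : ClSub.idealMod IA ⊞ ClSub.idealMod IB ⟶ _) y m
      have hdec : stalkLin (biprod.inl : _ ⟶ ClSub.idealMod IA ⊞ ClSub.idealMod IB) y na +
          stalkLin (biprod.inr : _ ⟶ ClSub.idealMod IA ⊞ ClSub.idealMod IB) y nb = m := by
        have h := LinearMap.congr_fun (congrArg (fun f => stalkLin f y)
          (biprod.total (X := ClSub.idealMod IA) (Y := ClSub.idealMod IB))) m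
        rw [DevLib.stalkLin_add, LinearMap.add_apply, stalkLin_comp, stalkLin_comp, LinearMap.comp_apply,
          LinearMap.comp_apply, stalkLin_id] at h
        exact h
      have h0 : stalkLin (ClSub.idealModι IA) y na + stalkLin (ClSub.idealModι IB) y nb = 0 := by
        have := congrArg (stalkLin (ClSub.idealModι IP) y) hm
        rw [← hdec, map_add, map_add, map_zero, hl, hr2] at this
        exact this
      obtain ⟨r, hr⟩ := (bijective_oneG y).2 (stalkLin (ClSub.idealModι IA) y na)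
      have hrA := (HilbObsLib.mem_range_idealModι IA y r).1 ⟨na, hr.symm⟩
      have hrB : -r ∈ IntMult.stalkIdeal IB y := (HilbObsLib.mem_range_idealModι IB y (-r)).1 ⟨nb, by
        rw [neg_smul, show r • oneG y = stalkLin (ClSub.idealModι IA) y na from hr]
        exact eq_neg_of_add_eq_zero_right h0⟩
      have hr0 : r = 0 := eq_zero_of_mem_both hun y hrA (by simpa using hrB)
      have hra : stalkLin (ClSub.idealModι IA) y na = 0 := by rw [← hr, hr0]; exact zero_smul _ _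
      have hna : na = 0 := (mono_iff_stalk (ClSub.idealModι IA)).1 inferInstance y (by rw [hra, map_zero])
      have hnb : nb = 0 := (mono_iff_stalk (ClSub.idealModι IB)).1 inferInstance y (by
        rw [map_zero]; rwa [hna, map_zero, zero_add] at h0)
      rw [← hdec, hna, hnb, map_zero, map_zero, add_zero]
    · obtain ⟨r, hr⟩ := (bijective_oneG y).2 (stalkLin (ClSub.idealModι IP) y n)
      have hrP := (HilbObsLib.mem_range_idealModι IP y r).1 ⟨n, hr.symm⟩
      obtain ⟨u, v, hu, hv, huv⟩ : ∃ u v, u ∈ IntMult.stalkIdeal IA y ∧ v ∈ IntMult.stalkIdeal IB y ∧ u + v = r := by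
        by_cases hy : y = P
        · subst hy
          refine exists_split hun (fun η hη => ⟨fun h h' => hPmin η hη (hint.le ⟨h, h'⟩), fun h =>
            ((Set.ext_iff.1 hun η).2 trivial).resolve_right h⟩) hA hB hδ ?_
          obtain ⟨_, ⟨V : X.Opens, (hV : IsAffineOpen V), rfl⟩, hyV, -⟩ := X.isBasis_affineOpens.exists_subset_of_mem_open (Set.mem_univ y) isOpen_univ
          letI := TopCat.Presheaf.algebra_section_stalk X.presheaf (⟨y, hyV⟩ : V)
          haveI := hV.isLocalization_stalk ⟨y, hyV⟩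
          rw [IdealStalkLib.stalkIdeal_eq _ ⟨V, hV⟩ y hyV, Scheme.IdealSheafData.vanishingIdeal_ideal] at hrP
          refine (le_of_eq (IsLocalization.AtPrime.map_eq_maximalIdeal (hV.primeIdealOf ⟨y, hyV⟩).asIdeal (X.presheaf.stalk y)))
            (Ideal.map_mono ?_ hrP)
          intro i hi
          exact (PrimeSpectrum.mem_vanishingIdeal _ _).1 hi _ (hV.fromSpec_primeIdealOf ⟨y, hyV⟩)
        · have htop : y ∉ ZA ∨ y ∉ ZB := by
            by_contra h; push Not at h; exact hy (hint.le h)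
          have hr' : ∀ Z : Closeds X, y ∉ Z → IntMult.stalkIdeal (Scheme.IdealSheafData.vanishingIdeal Z) y = ⊤ := fun Z hZ =>
            HilbObsLib.stalkIdeal_eq_top _ (by
              rw [Scheme.IdealSheafData.range_subschemeι, Scheme.IdealSheafData.coe_support_vanishingIdeal]
              exact hZ)
          rcases htop with h | h
          · exact ⟨r, 0, by rw [show IntMult.stalkIdeal IA y = ⊤ from hr' ZA h]; trivial, Submodule.zero_mem _, add_zero r⟩
          · exact ⟨0, r, Submodule.zero_mem _, by rw [show IntMult.stalkIdeal IB y = ⊤ from hr' ZB h]; trivial, zero_add r⟩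
      obtain ⟨na, hna⟩ := (HilbObsLib.mem_range_idealModι IA y u).2 hu
      obtain ⟨nb, hnb⟩ := (HilbObsLib.mem_range_idealModι IB y v).2 hv
      refine ⟨stalkLin (biprod.inl : _ ⟶ ClSub.idealMod IA ⊞ ClSub.idealMod IB) y na +
          stalkLin (biprod.inr : _ ⟶ ClSub.idealMod IA ⊞ ClSub.idealMod IB) y nb,
        (mono_iff_stalk (ClSub.idealModι IP)).1 inferInstance y ?_⟩
      rw [map_add, map_add, hl, hr2, hna, hnb, ← add_smul, huv]
      exact hr
  have hne : ∀ Z : Closeds X, (Z : Set X) ≠ Set.univ → ¬ IsZero (ClSub.idealMod (Scheme.IdealSheafData.vanishingIdeal Z)) := by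
    intro Z hZ h0
    obtain ⟨y, hy⟩ := Set.nonempty_compl.2 hZ
    obtain ⟨n, hn⟩ := (HilbObsLib.mem_range_idealModι (Scheme.IdealSheafData.vanishingIdeal Z) y 1).2 (by
      rw [HilbObsLib.stalkIdeal_eq_top _ (by
        rw [Scheme.IdealSheafData.range_subschemeι, Scheme.IdealSheafData.coe_support_vanishingIdeal]
        exact hy)]
      trivial)
    rw [h0.eq_of_src (ClSub.idealModι _) 0, DevLib.stalkLin_zero, LinearMap.zero_apply] at hn
    exact zero_ne_one ((bijective_oneG y).1 (show (0 : X.presheaf.stalk y) • oneG y = (1 : X.presheaf.stalk y) • oneG y by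
      rw [zero_smul, hn]))
  refine ⟨inv ψ ≫ biprod.fst ≫ biprod.inl ≫ ψ, by simp, fun h => ?_, fun h => ?_⟩
  · refine hne ZA hneA ((IsZero.iff_id_eq_zero _).2 ?_)
    have h2 : biprod.inl ≫ (ψ ≫ (inv ψ ≫ biprod.fst ≫ biprod.inl ≫ ψ) ≫ inv ψ) ≫ biprod.fst =
        (0 : ClSub.idealMod IA ⟶ ClSub.idealMod IA) := by rw [h]; simp
    simpa using h2
  · refine hne ZB hneB ((IsZero.iff_id_eq_zero _).2 ?_)
    have h2 : biprod.inr ≫ (ψ ≫ (inv ψ ≫ biprod.fst ≫ biprod.inl ≫ ψ) ≫ inv ψ) ≫ biprod.snd =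
        (𝟙 _ : ClSub.idealMod IB ⟶ ClSub.idealMod IB) := by rw [h]; erw [Category.id_comp, IsIso.hom_inv_id, Category.id_comp, biprod.inr_snd]
    simpa using h2.symm

end Groth.Agent.DeltaBC
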