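import Groth.Agent.DeltaBCLib.Genus
import Groth.Agent.DeltaBCLib.Branches
import Groth.Agent.FinCondEasy.Components
import Groth.Agent.CompTopLib.Basic
import Groth.Agent.S7655
import Groth.Agent.S9679

/-!
# Birational finite maps of curves, components of normal schemes, branches
-/

set_option autoImplicit false
set_option linter.style.haveILetI false
set_option backward.isDefEq.respectTransparency false

universe u

open CategoryTheory CategoryTheory.Limits AlgebraicGeometry TopologicalSpace IsLocalRing

noncomputable section

namespace Groth.Agent.DeltaBC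

theorem eq_of_specializes_maximal {X : Scheme.{u}} {x w : X} (hx : closure ({x} : Set X) ∈ irreducibleComponents (X : Type u))
    (h : w ⤳ x) : w = x := by
  have h1 : closure ({x} : Set X) ⊆ closure ({w} : Set X) :=
    closure_minimal (Set.singleton_subset_iff.2 (specializes_iff_mem_closure.1 h)) isClosed_closure
  have h2 : closure ({w} : Set X) ⊆ closure ({x} : Set X) := hx.2 isIrreducible_singleton.closure h1
  exact (Specializes.antisymm h (specializes_iff_mem_closure.2 (h2 (subset_closure rfl)))).eq

theorem isField_stalk_maximal {X : Scheme.{u}} [IsReduced X] {x : X}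
    (hx : closure ({x} : Set X) ∈ irreducibleComponents (X : Type u)) : IsField (X.presheaf.stalk x) := by
  haveI : Ring.KrullDimLE 0 (X.presheaf.stalk x) := by
    rw [Ring.krullDimLE_iff, ringKrullDim_stalk_eq_coheight, Order.coheight_eq_zero.2 fun w hw =>
      (eq_of_specializes_maximal hx hw).symm ▸ le_rfl]
    simp
  exact IsLocalRing.isField_iff_maximalIdeal_eq.2 (eq_bot_iff.2 fun z hz => (Ideal.mem_bot).2
    (Ring.KrullDimLE.isNilpotent_iff_mem_nonunits.2 hz).eq_zero)

/-- A finite map matching the generic points with their residue fields is an isomorphism over a dense open. -/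
theorem exists_iso_dense {X X' : Scheme.{u}} [IsNoetherian X] [IsReduced X] [IsReduced X'] (π : X' ⟶ X) [IsFinite π]
    (hbij : Set.BijOn (fun x' : X' => π x') {x' : X' | closure ({x'} : Set X') ∈ irreducibleComponents (X' : Type u)}
      {x : X | closure ({x} : Set X) ∈ irreducibleComponents (X : Type u)})
    (hres : ∀ x' : X', closure ({x'} : Set X') ∈ irreducibleComponents (X' : Type u) → Function.Bijective (π.residueFieldMap x').hom) :
    ∃ U : X.Opens, Dense (U : Set X) ∧ Dense ((π ⁻¹ᵁ U : X'.Opens) : Set X') ∧ IsIso (π ∣_ U) := by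
  haveI : IsLocallyNoetherian X' := LocallyOfFiniteType.isLocallyNoetherian π
  haveI : CompactSpace X' := QuasiCompact.compactSpace_of_compactSpace π
  haveI : IsNoetherian X' := { }
  have hiso : ∀ x : X', closure ({x} : Set X') ∈ irreducibleComponents (X' : Type u) → IsIso (π.stalkMap x) := by
    intro x hx
    have hA := (isField_stalk_maximal (hbij.mapsTo hx))
    have hB := isField_stalk_maximal hx
    refine (ConcreteCategory.isIso_iff_bijective _).2 ⟨?_, fun b => ?_⟩
    · letI := hA.toField
      exact (π.stalkMap x).hom.injective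
    · obtain ⟨c, hc⟩ := (hres x hx).2 (X'.residue x b)
      obtain ⟨a, ha⟩ := residue_surjective c
      refine ⟨a, ?_⟩
      have hinj : Function.Injective (X'.residue x) := by
        letI := hB.toField
        exact (X'.residue x).hom.injective
      apply hinj
      rw [← hc, ← ha]
      exact (ConcreteCategory.congr_hom (Scheme.residue_residueFieldMap π x) a).symm
  obtain ⟨V, hV, hVi⟩ := S9679.result π (NoetherianSpace.finite_irreducibleComponents (α := X'))
    (NoetherianSpace.finite_irreducibleComponents (α := X)) hbij hiso (Or.inl inferInstance) (Or.inl ⟨inferInstance, inferInstance⟩)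
  refine ⟨V, hV, ?_, hVi⟩
  rw [dense_iff_inter_open]
  rintro O hO ⟨y, hy⟩
  obtain ⟨η, hη⟩ := QuasiSober.sober (isIrreducible_irreducibleComponent (x := y)) isClosed_irreducibleComponent
  have hηc : closure ({η} : Set X') ∈ irreducibleComponents (X' : Type u) := by
    rw [hη.def]; exact irreducibleComponent_mem_irreducibleComponents y
  refine ⟨η, (hη.specializes mem_irreducibleComponent).mem_open hO hy, ?_⟩
  show π η ∈ V
  have hg : closure ({π η} : Set X) ∈ irreducibleComponents (X : Type u) := hbij.mapsTo hηc
  have hfin := NoetherianSpace.finite_irreducibleComponents (α := X)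
  have hZ : IsClosed (⋃₀ (irreducibleComponents (X : Type u) \ {closure ({π η} : Set X)})) := by
    rw [Set.sUnion_eq_biUnion]
    exact (hfin.subset Set.sdiff_subset).isClosed_biUnion fun t ht => isClosed_of_mem_irreducibleComponents t ht.1
  obtain ⟨w, hwO, hwV⟩ := hV.inter_open_nonempty _ hZ.isOpen_compl ⟨π η, by
    rintro ⟨t, ⟨ht, htne⟩, hηt⟩
    exact htne (Set.Subset.antisymm (hg.2 ht.1 ((isClosed_of_mem_irreducibleComponents t ht).closure_subset_iff.2
      (Set.singleton_subset_iff.2 hηt))) ((isClosed_of_mem_irreducibleComponents t ht).closure_subset_iff.2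
      (Set.singleton_subset_iff.2 hηt)))⟩
  have hwc : w ∈ closure ({π η} : Set X) := by
    by_contra h
    exact hwO ⟨irreducibleComponent w, ⟨irreducibleComponent_mem_irreducibleComponents w, fun e => h (by
      rw [← show irreducibleComponent w = closure ({π η} : Set X) from e]; exact mem_irreducibleComponent)⟩,
      mem_irreducibleComponent⟩
  exact (specializes_iff_mem_closure.2 hwc).mem_open V.2 hwV

/-- On a normal Noetherian scheme components are connected components. -/
theorem card_components_of_normal {X : Scheme.{u}} [IsNoetherian X] (h : Pi1.IsNormalScheme X) :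
    Nat.card ↥(irreducibleComponents (X : Type u)) = Nat.card (_root_.ConnectedComponents X) :=
  by
  classical
  let φ : ↥(irreducibleComponents (X : Type u)) → _root_.ConnectedComponents X :=
    fun Z => ConnectedComponents.mk Z.2.1.nonempty.some
  have hsurj : Function.Surjective φ := fun c => by
    obtain ⟨t, rfl⟩ := ConnectedComponents.surjective_coe c
    refine ⟨⟨_, irreducibleComponent_mem_irreducibleComponents t⟩, ?_⟩
    exact ConnectedComponents.coe_eq_coe'.2 (isIrreducible_irreducibleComponent.isConnected.isPreconnected.subset_connectedComponent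
      mem_irreducibleComponent (Set.Nonempty.some_mem (irreducibleComponent_mem_irreducibleComponents t).1.nonempty))
  haveI := isReduced_of_normal h
  refine Nat.card_eq_of_bijective φ ⟨fun Z Z' he => ?_, hsurj⟩
  have hd := (FinCondEasy.pairwiseDisjoint_iff X).2 fun t => by
    haveI := (h t).1
    rw [nilradical_eq_zero]
    exact Ideal.isPrime_bot
  have hcl : IsClopen Z.1 := ⟨isClosed_of_mem_irreducibleComponents _ Z.2,
    CompTopLib.isOpen_of_disjoint (fun A hA B hB hne => hd hA hB hne)
      (fun x => ⟨Set.univ, isOpen_univ, trivial,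
        (TopologicalSpace.NoetherianSpace.finite_irreducibleComponents (α := X)).subset fun A hA => hA.1⟩) Z.2⟩
  refine Subtype.ext (hd.elim Z.2 Z'.2 (Set.not_disjoint_iff.2 ⟨_, ?_, Z'.2.1.nonempty.some_mem⟩))
  exact hcl.connectedComponent_subset Z.2.1.nonempty.some_mem (ConnectedComponents.coe_eq_coe'.1 he.symm)

/-- There are at most as many branches as geometric branches. -/
theorem numBranches_le_numGeomBranches (A : Type u) [CommRing A] [IsLocalRing A] [_root_.IsReduced A] [IsNoetherianRing A]
    [Module.Finite A (Nor A)] : Brnch.numBranches A ≤ Brnch.numGeomBranches A := by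
  classical
  unfold Brnch.numBranches Brnch.numGeomBranches
  rw [if_pos (minimalPrimes.finite_of_isNoetherianRing A), if_pos (minimalPrimes.finite_of_isNoetherianRing A)]
  obtain ⟨ψ, hψ⟩ := S7655.exists_equiv A
  letI : Algebra A (CAlg2.normRed A) := (S7655.toNorm A).toAlgebra
  let Ψ : Nor A ≃ₐ[A] CAlg2.normRed A := AlgEquiv.ofRingEquiv (f := ψ) hψ
  haveI : Module.Finite A (CAlg2.normRed A) := Module.Finite.equiv Ψ.toLinearEquiv
  haveI : Algebra.IsIntegral A (CAlg2.normRed A) := Algebra.IsIntegral.of_finite A _
  have hne : ∀ m', Nonempty (Brnch.Emb A m') := by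
    intro m'
    haveI := m'.isMaximal
    letI : Field (CAlg2.normRed A ⧸ m'.asIdeal) := Ideal.Quotient.field _
    let φ : ResidueField A →+* CAlg2.normRed A ⧸ m'.asIdeal := Ideal.Quotient.lift _ (algebraMap A _) fun a ha => by
      show Ideal.Quotient.mk _ (algebraMap A (CAlg2.normRed A) a) = 0
      rw [Ideal.Quotient.eq_zero_iff_mem, ← Ideal.mem_comap,
        eq_maximalIdeal (Ideal.isMaximal_comap_of_isIntegral_of_isMaximal (R := A) m'.asIdeal)]
      exact ha
    letI := φ.toAlgebra
    haveI : IsScalarTower A (ResidueField A) (CAlg2.normRed A ⧸ m'.asIdeal) := IsScalarTower.of_algebraMap_eq fun a => rfl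
    haveI : Algebra.IsIntegral (ResidueField A) (CAlg2.normRed A ⧸ m'.asIdeal) := Algebra.IsIntegral.tower_top (R := A)
    haveI : Algebra.IsAlgebraic (ResidueField A) (CAlg2.normRed A ⧸ m'.asIdeal) := Algebra.IsIntegral.isAlgebraic
    let σ : (CAlg2.normRed A ⧸ m'.asIdeal) →ₐ[ResidueField A] AlgebraicClosure (ResidueField A) := IsAlgClosed.lift
    exact ⟨⟨σ.toRingHom, RingHom.ext fun a => σ.commutes (residue A a)⟩⟩
  exact ENat.card_le_card_of_injective (f := fun m' => (⟨m', (hne m').some⟩ : Σ m', Brnch.Emb A m'))
    fun a b h => congrArg Sigma.fst h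

/-- `1 ≤ m ≤ δ + 1` with everything finite. -/
theorem exists_branches_delta (A : Type u) [CommRing A] [IsLocalRing A] [_root_.IsReduced A]
    (hN : CAlg.IsNagata A) (hdim : ringKrullDim A = 1) :
    ∃ m d : ℕ, Brnch.numBranches A = m ∧ Curv2.deltaInv A = d ∧ m ≤ d + 1 := by
  haveI := hN.1
  obtain ⟨hfin, -, hlt⟩ := S7652.result A hN hdim
  haveI : Module.Finite A (Nor A) := hfin
  obtain ⟨d, hd⟩ := ENat.ne_top_iff_exists.1 (ne_of_lt hlt)
  refine ⟨_, d, numBranches_eq A, hd.symm, ?_⟩
  have h := (numBranches_le_numGeomBranches A).trans (S7655.result A hN hdim)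
  rw [numBranches_eq A, ← hd] at h
  exact_mod_cast h

end Groth.Agent.DeltaBC
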